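import Cfsg.Agent.Lib.Invol.UThreeFour.Recog.Frame

/-!
The action on 65 points is that of the model: every group with the hypotheses is isomorphic to one
fixed group of permutations of 65 points.
-/

set_option autoImplicit false
set_option linter.unusedSectionVars false
set_option linter.style.haveILetI false
set_option maxHeartbeats 1000000

namespace CfsgLib.Invol.UThreeFour.Recog

open Subgroup

universe u

/-- The permutations of the model: a translation, the automorphism and the involution. -/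
def modelGens : Set (Equiv.Perm (Fin 65)) :=
  {σ | (∀ i : Fin 65, (σ i : ℕ) = ltr 1 i) ∨ (∀ i : Fin 65, (σ i : ℕ) = if (i : ℕ) = 64 then 64 else aut i) ∨
    ∀ i : Fin 65, (σ i : ℕ) = good i}

/-- The model group. -/
def modelGroup : Subgroup (Equiv.Perm (Fin 65)) := Subgroup.closure modelGens

theorem points : ∀ b < 65, b = 64 ∨ b = 0 ∨ b = 16 ∨ b = 32 ∨ b = 48 ∨ (b < 64 ∧ b &&& 15 ≠ 0) := by
  decide +kernel

theorem fix_three : ∀ b < 64, (pw 3 b = b ↔ b &&& 15 = 0) := by decide +kernel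

theorem center_points : ∀ b < 64, b &&& 15 = 0 → b = 0 ∨ b = 16 ∨ b = 32 ∨ b = 48 := by decide +kernel

theorem pw_center : pw 1 16 = 32 ∧ pw 2 16 = 48 ∧ pw 0 16 = 16 := by decide +kernel

set_option synthInstance.maxSize 4000 in
theorem other_pair : ∀ c < 4, c ≠ 0 → ∃ r < 4, ∃ r' < 4, r ≠ 0 ∧ r ≠ c ∧ r' ≠ 0 ∧ r' ≠ c ∧ r < r' ∧
    partner (c - 1) 0 = c ∧ partner (c - 1) c = 0 ∧ partner (c - 1) r = r' ∧ partner (c - 1) r' = r ∧
    (∀ i < 4, i = 0 ∨ i = c ∨ i = r ∨ i = r') ∧ c - 1 < 3 := by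
  decide +kernel

section

variable {G : Type u} [Group G] [Finite G] {S : Sylow 2 G} {Z : Subgroup G}

local notation "X" => G ⧸ normalizer ((S : Subgroup G) : Set G)

/-- The coordinates of a frame together with the interchanging involution in normal position. -/
structure Coord (S : Sylow 2 G) (Z : Subgroup G) where
  p : G ⧸ normalizer ((S : Subgroup G) : Set G)
  x : G
  h : G
  w : G
  k : ℕ
  p_ne : p ≠ base S
  h_mem : h ∈ normalizer ((S : Subgroup G) : Set G)
  h_fix : h • p = p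
  gens : Gens (S : Subgroup G) Z x h
  stab : ∀ n ∈ normalizer ((S : Subgroup G) : Set G), n • p = p → ∃ m < 15, n = h ^ m
  w_sq : w * w = 1
  w_base : w • base S = p
  w_p : w • p = base S
  k_lt : k < 15
  k_sq : k * k % 15 = 1
  twist : w * h * w⁻¹ = h ^ k
  w_fix : w • (phi h x 16 • p) = phi h x 16 • p

namespace Coord

variable (H₀ : Hyp G S Z) (C : Coord S Z)

/-- The points. -/
def pt (b : ℕ) : G ⧸ normalizer ((S : Subgroup G) : Set G) :=
  if b = 64 then base S else phi C.h C.x b • C.p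

theorem pt_last : C.pt 64 = base S := if_pos rfl

theorem pt_lt {b : ℕ} (hb : b < 64) : C.pt b = phi C.h C.x b • C.p := if_neg (by omega)

theorem pt_zero : C.pt 0 = C.p := by rw [C.pt_lt (by norm_num), Gens.phi_zero, one_smul]

include H₀ in
theorem pt_ne_base {b : ℕ} (hb : b < 64) : C.pt b ≠ base S := by
  intro e
  rw [C.pt_lt hb] at e
  refine C.p_ne ?_
  rw [← inv_smul_smul (phi C.h C.x b) C.p, e]
  exact smul_base_iff.2 (inv_mem (Subgroup.le_normalizer (C.gens.phi_mem b)))

include H₀ in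
theorem pt_injective {a b : ℕ} (ha : a < 65) (hb : b < 65) (e : C.pt a = C.pt b) : a = b := by
  by_cases h1 : a = 64 <;> by_cases h2 : b = 64
  · omega
  · subst h1; rw [pt_last] at e; exact absurd e.symm (C.pt_ne_base H₀ (by omega))
  · subst h2; rw [pt_last] at e; exact absurd e (C.pt_ne_base H₀ (by omega))
  rw [C.pt_lt (by omega), C.pt_lt (by omega)] at e
  refine C.gens.phi_injective a (by omega) b (by omega) ?_
  by_contra hne
  refine C.p_ne (H₀.semireg (mul_mem (inv_mem (C.gens.phi_mem b)) (C.gens.phi_mem a))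
    (fun h => hne (inv_mul_eq_one.1 h).symm) ?_)
  rw [mul_smul, e, inv_smul_smul]

include H₀ in
theorem pt_surjective (q : G ⧸ normalizer ((S : Subgroup G) : Set G)) : ∃ b < 65, C.pt b = q := by
  by_cases hq : q = base S
  · exact ⟨64, by norm_num, by rw [hq, pt_last]⟩
  obtain ⟨s, hs, he⟩ := H₀.regular C.p_ne hq
  obtain ⟨b, hb, rfl⟩ := C.gens.phi_surjective hs
  exact ⟨b, by omega, by rw [C.pt_lt hb, he]⟩

theorem phi_smul {a b : ℕ} (ha : a < 64) (hb : b < 65) :
    phi C.h C.x a • C.pt b = C.pt (ltr a b) := by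
  by_cases h : b = 64
  · subst h
    rw [ltr, if_pos rfl, pt_last]
    exact smul_base_iff.2 (Subgroup.le_normalizer (C.gens.phi_mem a))
  · rw [ltr, if_neg h, C.pt_lt (by omega), C.pt_lt (mul_lt a ha b (by omega)), ← mul_smul,
      C.gens.phi_mul b (by omega) a ha]

theorem conj_phi (m : ℕ) {b : ℕ} (hb : b < 64) :
    C.h ^ m * phi C.h C.x b * (C.h ^ m)⁻¹ = phi C.h C.x (pw (m % 15) b) := by
  induction m with
  | zero => simp [pw_zero b hb]
  | succ m ih =>
    obtain ⟨e1, e2⟩ := pw_succ (m % 15) (Nat.mod_lt _ (by norm_num)) b hb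
    rw [pow_succ', show C.h * C.h ^ m * phi C.h C.x b * (C.h * C.h ^ m)⁻¹ =
        C.h * (C.h ^ m * phi C.h C.x b * (C.h ^ m)⁻¹) * C.h⁻¹ by group, ih,
      ← C.gens.phi_aut _ e2, ← e1, show (m % 15 + 1) % 15 = (m + 1) % 15 by omega]

theorem h_pow_fix (m : ℕ) : C.h ^ m • C.p = C.p := by
  induction m with
  | zero => rw [pow_zero, one_smul]
  | succ m ih => rw [pow_succ, mul_smul, C.h_fix, ih]

theorem h_pow_smul (m : ℕ) {b : ℕ} (hb : b < 64) :
    C.h ^ m • C.pt b = C.pt (pw (m % 15) b) := by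
  have h2 := (pw_succ (m % 15) (Nat.mod_lt _ (by norm_num)) b hb).2
  rw [C.pt_lt hb, C.pt_lt h2, ← C.conj_phi m hb]
  conv_rhs => rw [mul_smul, show (C.h ^ m)⁻¹ • C.p = C.p by
    conv_lhs => rw [← C.h_pow_fix m, inv_smul_smul]]
  rw [mul_smul]

theorem h_pow_mod (m : ℕ) : C.h ^ m = C.h ^ (m % 15) := by
  conv_lhs => rw [← Nat.mod_add_div m 15, pow_add, pow_mul, C.gens.h15, one_pow, mul_one]

/-- The index of a point. -/
noncomputable def idx (q : G ⧸ normalizer ((S : Subgroup G) : Set G)) : ℕ :=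
  (C.pt_surjective H₀ q).choose

theorem idx_spec (q : G ⧸ normalizer ((S : Subgroup G) : Set G)) :
    C.idx H₀ q < 65 ∧ C.pt (C.idx H₀ q) = q :=
  (C.pt_surjective H₀ q).choose_spec

theorem idx_pt {b : ℕ} (hb : b < 65) : C.idx H₀ (C.pt b) = b :=
  C.pt_injective H₀ (C.idx_spec H₀ _).1 hb (C.idx_spec H₀ _).2

/-- The involution on indices. -/
noncomputable def U (b : ℕ) : ℕ := C.idx H₀ (C.w • C.pt b)

theorem U_lt (b : ℕ) : C.U H₀ b < 65 := (C.idx_spec H₀ _).1

theorem pt_U (b : ℕ) : C.pt (C.U H₀ b) = C.w • C.pt b := (C.idx_spec H₀ _).2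

theorem U_U {b : ℕ} (hb : b < 65) : C.U H₀ (C.U H₀ b) = b := by
  rw [U, pt_U, ← mul_smul, C.w_sq, one_smul, idx_pt _ _ hb]

theorem U_base : C.U H₀ 64 = 0 ∧ C.U H₀ 0 = 64 ∧ C.U H₀ 16 = 16 := by
  refine ⟨?_, ?_, ?_⟩
  · rw [U, pt_last, C.w_base, ← pt_zero C, idx_pt _ _ (by norm_num)]
  · rw [U, pt_zero, C.w_p, ← pt_last C, idx_pt _ _ (by norm_num)]
  · rw [U, C.pt_lt (by norm_num), C.w_fix, ← C.pt_lt (by norm_num), idx_pt _ _ (by norm_num)]

theorem U_eq_zero {b : ℕ} (hb : b < 65) (h : C.U H₀ b = 0) : b = 64 := by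
  rw [← C.U_U H₀ hb, h, (C.U_base H₀).2.1]

theorem U_eq_last {b : ℕ} (hb : b < 65) (h : C.U H₀ b = 64) : b = 0 := by
  rw [← C.U_U H₀ hb, h, (C.U_base H₀).1]

theorem U_pw {m b : ℕ} (hb : b < 64) (hc : C.U H₀ b < 64) :
    C.U H₀ (pw (m % 15) b) = pw (C.k * m % 15) (C.U H₀ b) := by
  have e : C.w * C.h ^ m = C.h ^ (C.k * m) * C.w := by
    rw [pow_mul, ← C.twist, conj_pow, inv_mul_cancel_right]
  rw [U, ← C.h_pow_smul m hb, ← mul_smul, e, mul_smul, ← C.pt_U H₀, C.h_pow_smul _ hc,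
    idx_pt _ _ (by
    have := (pw_succ (C.k * m % 15) (Nat.mod_lt _ (by norm_num)) _ hc).2
    omega)]

theorem U_fix_unique {b : ℕ} (hb : b < 65) (h : C.U H₀ b = b) : b = 16 := by
  have hfix : C.w • C.pt b = C.pt b := by rw [← C.pt_U H₀, h]
  have h16 : C.w • C.pt 16 = C.pt 16 := by rw [← C.pt_U H₀, (C.U_base H₀).2.2]
  refine C.pt_injective H₀ hb (by norm_num) ?_
  generalize C.pt b = q at hfix
  generalize C.pt 16 = r at h16
  induction q using QuotientGroup.induction_on with | _ g => ?_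
  induction r using QuotientGroup.induction_on with | _ g' => ?_
  have hsub : ∀ g : G, C.w • (g : X) = (g : X) → g⁻¹ * C.w * g ∈ (S : Subgroup G) := by
    intro g hg
    change ((C.w * g : G) : X) = (g : X) at hg
    rw [QuotientGroup.eq] at hg
    refine H₀.mem_of_two (k := 1) ?_ ?_
    · have := inv_mem hg
      rwa [mul_inv_rev, inv_inv, ← mul_assoc] at this
    · rw [pow_one, pow_two, show g⁻¹ * C.w * g * (g⁻¹ * C.w * g) = g⁻¹ * (C.w * C.w) * g by group,
        C.w_sq, mul_one, inv_mul_cancel]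
  have h1 := hsub g hfix
  have h2 := hsub g' h16
  have hne : g⁻¹ * C.w * g ≠ 1 := by
    intro e
    refine C.p_ne ?_
    have hw : C.w = 1 := by
      have := congrArg (fun y => g * y * g⁻¹) e
      simpa [mul_assoc] using this
    rw [← C.w_base, hw, one_smul]
  have := H₀.ti (g := g'⁻¹ * g) h1 hne (by
    rwa [show g'⁻¹ * g * (g⁻¹ * C.w * g) * (g'⁻¹ * g)⁻¹ = g'⁻¹ * C.w * g' by group])
  exact QuotientGroup.eq.2 (by simpa using inv_mem this)

theorem U_orbit {i : ℕ} (hi : i < 4) : ∃ i' < 4, i' ≠ i ∧ ∃ m < 15,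
    C.U H₀ (rep i) = pw m (rep i') := by
  obtain ⟨hr, hrz, hrl⟩ := rep_spec i hi
  have hk := C.k_lt
  set c := C.U H₀ (rep i) with hc
  have hc65 := C.U_lt H₀ (rep i)
  have hrU := C.U_U H₀ (b := rep i) (by omega)
  rw [← hc] at hc65 hrU
  have hcl : c < 64 ∧ c &&& 15 ≠ 0 := by
    rcases points c hc65 with e | e | e | e | e | e
    · exfalso
      have e0 := C.U_eq_last H₀ (b := rep i) (by omega) (hc ▸ e)
      rw [e0] at hrz; simp at hrz
    · exfalso
      have := C.U_eq_zero H₀ (b := rep i) (by omega) (hc ▸ e)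
      omega
    · exfalso
      rw [e, (C.U_base H₀).2.2] at hrU
      rw [← hrU] at hrz; simp at hrz
    · exfalso
      rw [e, show (32 : ℕ) = pw (1 % 15) 16 from pw_center.1.symm,
        C.U_pw H₀ (by norm_num) (by rw [(C.U_base H₀).2.2]; norm_num), (C.U_base H₀).2.2] at hrU
      rw [← hrU] at hrz
      exact hrz ((by decide +kernel : ∀ m < 15, pw m 16 &&& 15 = 0) _ (Nat.mod_lt _ (by norm_num)))
    · exfalso
      rw [e, show (48 : ℕ) = pw (2 % 15) 16 from pw_center.2.1.symm,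
        C.U_pw H₀ (by norm_num) (by rw [(C.U_base H₀).2.2]; norm_num), (C.U_base H₀).2.2] at hrU
      rw [← hrU] at hrz
      exact hrz ((by decide +kernel : ∀ m < 15, pw m 16 &&& 15 = 0) _ (Nat.mod_lt _ (by norm_num)))
    · exact e
  obtain ⟨l1, l2, l3⟩ := loc_spec c hcl.1 hcl.2
  refine ⟨loc c >>> 4, l1, fun e => ?_, loc c &&& 15, l2, l3.symm⟩
  rw [e] at l3
  set m := loc c &&& 15
  -- an orbit preserved by the involution contains a fixed point
  have hUr : C.U H₀ (rep i) = pw m (rep i) := by rw [← hc, l3]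
  have hstep : ∀ j, C.U H₀ (pw (j % 15) (rep i)) = pw ((C.k * j + m) % 15) (rep i) := by
    intro j
    rw [C.U_pw H₀ hr (by rw [hUr]; exact (pw_succ m l2 _ hr).2), hUr]
    refine C.pt_injective H₀ ?_ ?_ ?_
    · have := (pw_succ m l2 _ hr).2
      have := (pw_succ _ (Nat.mod_lt (C.k * j) (by norm_num : 0 < 15)) _ this).2
      omega
    · have := (pw_succ _ (Nat.mod_lt (C.k * j + m) (by norm_num : 0 < 15)) _ hr).2
      omega
    rw [← C.h_pow_smul (C.k * j) (pw_succ m l2 _ hr).2, ← C.h_pow_smul (C.k * j + m) hr, pow_add,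
      mul_smul]
    congr 1
    rw [C.h_pow_smul m hr, Nat.mod_eq_of_lt l2]
  have hinv : (C.k * m + m) % 15 = 0 := by
    have h2 := hstep m
    rw [Nat.mod_eq_of_lt l2, ← hUr, C.U_U H₀ (by omega)] at h2
    have h3 := (hrl _ (Nat.mod_lt (C.k * m + m) (by norm_num))).1
    have h4 := (hrl 0 (by norm_num)).1
    rw [← h2] at h3
    rw [pw_zero _ hr] at h4
    omega
  obtain ⟨j, hj, hjm⟩ := self_fixed C.k hk C.k_sq m l2 hinv
  have hfx := hstep j
  rw [hjm, Nat.mod_eq_of_lt hj] at hfx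
  have hne := (hrl j hj).2
  rw [C.U_fix_unique H₀ (by have := (pw_succ j hj _ hr).2; omega) hfx] at hne
  simp at hne

theorem U_rel {i i' m : ℕ} (hi : i < 4) (hi' : i' < 4) (hm : m < 15)
    (h : C.U H₀ (rep i) = pw m (rep i')) (j : ℕ) :
    C.U H₀ (pw (j % 15) (rep i)) = pw ((C.k * j + m) % 15) (rep i') := by
  have h2 := (pw_succ m hm _ (rep_spec i' hi').1).2
  rw [C.U_pw H₀ (rep_spec i hi).1 (by rw [h]; exact h2), h]
  refine C.pt_injective H₀ ?_ ?_ ?_
  · have := (pw_succ _ (Nat.mod_lt (C.k * j) (by norm_num : 0 < 15)) _ h2).2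
    omega
  · have := (pw_succ _ (Nat.mod_lt (C.k * j + m) (by norm_num : 0 < 15)) _ (rep_spec i' hi').1).2
    omega
  rw [← C.h_pow_smul (C.k * j) h2, ← C.h_pow_smul (C.k * j + m) (rep_spec i' hi').1, pow_add, mul_smul]
  congr 1
  rw [C.h_pow_smul m (rep_spec i' hi').1, Nat.mod_eq_of_lt hm]

theorem U_back {i i' m : ℕ} (hi : i < 4) (hi' : i' < 4) (hm : m < 15)
    (h : C.U H₀ (rep i) = pw m (rep i')) (j : ℕ) :
    C.U H₀ (pw (j % 15) (rep i')) = pw ((C.k * j + (15 - C.k * m % 15)) % 15) (rep i) := by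
  set n := (C.k * j + (15 - C.k * m % 15)) % 15 with hn
  have hmod : ∀ k < 15, k * k % 15 = 1 → ∀ m < 15, ∀ j < 15,
      (k * ((k * j + (15 - k * m % 15)) % 15) + m) % 15 = j := by decide +kernel
  have e := C.U_rel H₀ hi hi' hm h n
  rw [Nat.mod_eq_of_lt (Nat.mod_lt _ (by norm_num) : n < 15)] at e
  have hj15 : j % 15 < 15 := Nat.mod_lt _ (by norm_num)
  have key := hmod C.k C.k_lt C.k_sq m hm (j % 15) hj15
  have hred : (C.k * (j % 15) + (15 - C.k * m % 15)) % 15 = n := by
    rw [hn, Nat.add_mod, Nat.mul_mod, Nat.mod_mod, ← Nat.mul_mod, ← Nat.add_mod]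
  rw [hred] at key
  rw [key] at e
  have hb : pw n (rep i) < 65 :=
    Nat.lt_succ_of_lt (pw_succ n (Nat.mod_lt _ (by norm_num)) _ (rep_spec i hi).1).2
  rw [← e, C.U_U H₀ hb]

theorem exists_cand : ∃ s < 3, ∃ x < 15, ∃ y < 15, ∀ b < 65, C.U H₀ b = cand C.k s x y b := by
  obtain ⟨c, hc, hc0, x, hx, hUx⟩ := C.U_orbit H₀ (i := 0) (by norm_num)
  obtain ⟨r, hr, r', hr', hr0, hrc, hr0', hrc', hlt, p1, p2, p3, p4, hall, hs⟩ := other_pair c hc hc0
  obtain ⟨i', hi', hne, y, hy, hUy⟩ := C.U_orbit H₀ hr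
  have hi'eq : i' = r' := by
    have hloc : ∀ {a b m n : ℕ}, a < 4 → b < 4 → m < 15 → n < 15 → pw m (rep a) = pw n (rep b) → a = b := by
      intro a b m n ha hb hm hn e
      have h1 := ((rep_spec a ha).2.2 m hm).1
      have h2 := ((rep_spec b hb).2.2 n hn).1
      rw [e, h2] at h1
      omega
    have hb : C.U H₀ (pw y (rep i')) = rep r := by
      rw [← hUy, C.U_U H₀]
      have := (rep_spec r hr).1
      omega
    have hr0'' : pw 0 (rep r) = rep r := pw_zero _ (rep_spec r hr).1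
    rcases hall i' hi' with e | e | e | e
    · exfalso
      have := C.U_rel H₀ (i := 0) (by norm_num) hc hx hUx y
      rw [Nat.mod_eq_of_lt hy, ← e, hb, ← hr0''] at this
      exact hrc (hloc hr hc (by norm_num) (Nat.mod_lt _ (by norm_num)) this)
    · exfalso
      have := C.U_back H₀ (i := 0) (by norm_num) hc hx hUx y
      rw [Nat.mod_eq_of_lt hy, ← e, hb, ← hr0''] at this
      exact hr0 (hloc hr (by norm_num) (by norm_num) (Nat.mod_lt _ (by norm_num)) this)
    · exact absurd e hne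
    · exact e
  subst hi'eq
  refine ⟨c - 1, hs, x, hx, y, hy, fun b hb => ?_⟩
  obtain ⟨u1, u2, u3⟩ := C.U_base H₀
  have hb16 : C.U H₀ 16 < 64 := by rw [u3]; norm_num
  rcases points b hb with rfl | rfl | rfl | rfl | rfl | ⟨hb64, hbz⟩
  · rw [u1]; rfl
  · rw [u2]; rfl
  · rw [u3, cand, if_neg (by norm_num), if_neg (by norm_num), if_pos (by decide), if_pos rfl,
      pw_zero 16 (by norm_num)]
  · rw [cand, if_neg (by norm_num), if_neg (by norm_num), if_pos (by decide), if_neg (by norm_num),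
      if_pos rfl]
    have := C.U_pw H₀ (m := 1) (b := 16) (by norm_num) hb16
    rw [Nat.mul_one, u3, pw_center.1] at this
    exact this
  · rw [cand, if_neg (by norm_num), if_neg (by norm_num), if_pos (by decide), if_neg (by norm_num),
      if_neg (by norm_num), Nat.mul_comm 2]
    have := C.U_pw H₀ (m := 2) (b := 16) (by norm_num) hb16
    rw [u3, pw_center.2.1] at this
    exact this
  obtain ⟨l1, l2, l3⟩ := loc_spec b hb64 hbz
  have hcand : cand C.k (c - 1) x y b =
      (let i := loc b >>> 4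
       let j := loc b &&& 15
       let i' := partner (c - 1) i
       let first := if i < i' then i else i'
       let off := if first = 0 then x else y
       if i < i' then pw ((C.k * j + off) % 15) (rep i')
       else pw ((C.k * j + (15 - (C.k * off) % 15)) % 15) (rep i')) := by
    unfold cand
    rw [if_neg (by omega), if_neg (fun e => by rw [e] at hbz; simp at hbz), if_neg hbz]
  rw [hcand]
  conv_lhs => rw [← l3, ← Nat.mod_eq_of_lt l2]
  simp only []
  rcases hall _ l1 with e | e | e | e <;> rw [e]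
  · rw [p1, if_pos (Nat.pos_of_ne_zero hc0), if_pos (Nat.pos_of_ne_zero hc0), if_pos rfl]
    exact C.U_rel H₀ (by norm_num) hc hx hUx _
  · rw [p2, if_neg (Nat.not_lt_zero _), if_neg (Nat.not_lt_zero _), if_pos rfl]
    exact C.U_back H₀ (by norm_num) hc hx hUx _
  · rw [p3, if_pos hlt, if_pos hlt, if_neg hr0]
    exact C.U_rel H₀ hr hr' hy hUy _
  · rw [p4, if_neg (not_lt.2 hlt.le), if_neg (not_lt.2 hlt.le), if_neg hr0]
    exact C.U_back H₀ hr hr' hy hUy _

theorem test_U {a p q : ℕ} (ha : a < 64) (ha0 : a ≠ 0) (hp : p < 64) (hq : q < 64) :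
    test (C.U H₀) a p q = true := by
  have hUa : C.U H₀ a < 64 := by
    have := C.U_lt H₀ a
    rcases Nat.lt_or_ge (C.U H₀ a) 64 with h | h
    · exact h
    · exact absurd (C.U_eq_last H₀ (by omega) (by omega)) ha0
  obtain ⟨hd, hd1, -⟩ := inv_spec _ hUa
  set d := inv (C.U H₀ a) with hdd
  set f := C.w * phi C.h C.x d * C.w * phi C.h C.x a * C.w with hf
  have hl : ∀ {e b : ℕ}, e < 64 → b < 65 → ltr e b < 65 := by
    intro e b he hb
    rw [ltr]; split
    · norm_num
    · have := mul_lt e he b (by omega); omega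
  have hact : ∀ b < 65, f • C.pt b = C.pt (word (C.U H₀) a b) := by
    intro b hb
    rw [hf, mul_smul, mul_smul, mul_smul, mul_smul, ← C.pt_U H₀, C.phi_smul ha (C.U_lt H₀ b),
      ← C.pt_U H₀, C.phi_smul hd (C.U_lt H₀ _), ← C.pt_U H₀]
    rfl
  have hbase : f • base S = base S := by
    have := hact 64 (by norm_num)
    rw [pt_last] at this
    rw [this, word, (C.U_base H₀).1]
    have e1 : ltr a 0 = a := by
      rw [ltr, if_neg (by norm_num)]
      exact (by decide +kernel : ∀ a < 64, mul a 0 = a) a ha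
    have e2 : ltr d (C.U H₀ a) = 0 := by rw [ltr, if_neg (by omega), hd1]
    rw [e1, ← hdd, e2, (C.U_base H₀).2.1, pt_last]
  have hf0 := hact 0 (by norm_num)
  rw [pt_zero] at hf0
  set f0 := word (C.U H₀) a 0
  have hf0lt : f0 < 64 := by
    have h65 : f0 < 65 := C.U_lt H₀ _
    rcases Nat.lt_or_ge f0 64 with h | h
    · exact h
    · exfalso
      rw [show f0 = 64 by omega, pt_last, ← hbase] at hf0
      exact C.p_ne (smul_left_cancel f hf0)
  obtain ⟨m, hm, he⟩ := C.stab ((phi C.h C.x f0)⁻¹ * f)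
    (mul_mem (inv_mem (Subgroup.le_normalizer (C.gens.phi_mem f0))) (smul_base_iff.1 hbase))
    (by rw [mul_smul, hf0, C.pt_lt hf0lt, inv_smul_smul])
  have hb : ∀ b < 64, word (C.U H₀) a b = mul f0 (pw m b) := by
    intro b hb
    have h2 := (pw_succ m hm b hb).2
    refine C.pt_injective H₀ (C.U_lt H₀ _) (by have := mul_lt f0 hf0lt _ h2; omega) ?_
    rw [← hact b (by omega), ← mul_inv_cancel_left (phi C.h C.x f0) f, he, mul_smul,
      C.h_pow_smul m hb, Nat.mod_eq_of_lt hm, C.phi_smul hf0lt (by omega), ltr, if_neg (by omega)]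
  rw [test, List.any_eq_true]
  exact ⟨m, List.mem_range.2 hm, by simp [hb p hp, hb q hq]; exact ⟨rfl, rfl⟩⟩

include H₀ in
theorem U_eq_good : ∀ b < 65, C.U H₀ b = good b := by
  obtain ⟨s, hs, x, hx, y, hy, hU⟩ := C.exists_cand H₀
  have hcl : ∀ b < 65, cand C.k s x y b < 65 := fun b hb => hU b hb ▸ C.U_lt H₀ b
  have hw : ∀ a b, a < 64 → a ≠ 0 → b < 64 → word (cand C.k s x y) a b = word (C.U H₀) a b := by
    intro a b ha ha0 hb
    have hUa : C.U H₀ a < 64 := by
      have := C.U_lt H₀ a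
      rcases Nat.lt_or_ge (C.U H₀ a) 64 with h | h
      · exact h
      · exact absurd (C.U_eq_last H₀ (by omega) (by omega)) ha0
    have hl : ∀ {e c : ℕ}, e < 64 → c < 65 → ltr e c < 65 := by
      intro e c he hc
      rw [ltr]; split
      · norm_num
      · have := mul_lt e he c (by omega); omega
    rw [word, word, ← hU a (by omega), ← hU b (by omega), ← hU _ (hl ha (C.U_lt H₀ b)),
      ← hU _ (hl (inv_spec _ hUa).1 (C.U_lt H₀ _))]
  have ht : ∀ a p q, a < 64 → a ≠ 0 → p < 64 → q < 64 → test (cand C.k s x y) a p q = true := by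
    intro a p q ha ha0 hp hq
    have := C.test_U H₀ ha ha0 hp hq
    simp only [test, hw a p ha ha0 hp, hw a q ha ha0 hq, hw a 0 ha ha0 (by norm_num)] at this ⊢
    exact this
  have he := unique C.k C.k_lt C.k_sq s hs x hx y hy (by
    rw [Bool.and_eq_true]
    exact ⟨ht 2 16 5 (by norm_num) (by norm_num) (by norm_num) (by norm_num),
      ht 16 1 4 (by norm_num) (by norm_num) (by norm_num) (by norm_num)⟩)
  simp only [Prod.mk.injEq] at he
  obtain ⟨e1, e2, e3, e4⟩ := he
  intro b hb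
  rw [hU b hb, e1, e2, e3, e4]
  rfl

end Coord

theorem Hyp.exists_coord (H₀ : Hyp G S Z) : Nonempty (Coord S Z) := by
  obtain ⟨p, x, h, w, hp, hh, hfix, hg, hstab, hw2, hwb, hwp⟩ := H₀.exists_frame
  have hwinv : w⁻¹ = w := inv_eq_of_mul_eq_one_left hw2
  have hmem : w * h * w⁻¹ ∈ normalizer ((S : Subgroup G) : Set G) ∧ (w * h * w⁻¹) • p = p := by
    constructor
    · refine smul_base_iff.1 ?_
      rw [hwinv, mul_smul, mul_smul, hwb, hfix, hwp]
    · rw [hwinv, mul_smul, mul_smul, hwp, smul_base_iff.2 hh, hwb]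
  obtain ⟨k, hk, hk'⟩ := hstab _ hmem.1 hmem.2
  have hcp : ∀ m : ℕ, w * h ^ m * w⁻¹ = h ^ (k * m) := fun m => by rw [← conj_pow, hk', ← pow_mul]
  have hord : orderOf h = 15 := by
    have hd : orderOf h ∣ 15 := orderOf_dvd_of_pow_eq_one hg.h15
    have hm : ∀ m < 15, 0 < m → h ^ m ≠ 1 := fun m hm hm0 e => hg.free m hm hm0 (by
      rw [e]; simp [one_mem])
    rcases Nat.lt_or_ge (orderOf h) 15 with hlt | hge
    · exact absurd (pow_orderOf_eq_one h) (hm _ hlt (orderOf_pos h))
    · exact le_antisymm (Nat.le_of_dvd (by norm_num) hd) hge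
  have hk2 : k * k % 15 = 1 := by
    have e := hcp k
    rw [← hk', show w * (w * h * w⁻¹) * w⁻¹ = (w * w) * h * (w * w)⁻¹ by group, hw2, one_mul,
      inv_one, mul_one] at e
    have h1 : h ^ 1 = h ^ (k * k % 15) := by
      rw [pow_one]
      conv_lhs => rw [e, ← pow_mod_orderOf, hord]
    exact (pow_injOn_Iio_orderOf (by rw [hord]; norm_num) (by rw [hord]; exact Nat.mod_lt _ (by norm_num)) h1).symm
  -- the involution permutes the three points of the centre
  let C' : ℕ → G := fun b => phi h x b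
  have hconj : ∀ m b, b < 64 → h ^ m * C' b * (h ^ m)⁻¹ = C' (pw (m % 15) b) := by
    intro m b hb
    induction m with
    | zero => simp [C', pw_zero b hb]
    | succ m ih =>
      obtain ⟨e1, e2⟩ := pw_succ (m % 15) (Nat.mod_lt _ (by norm_num)) b hb
      rw [pow_succ', show h * h ^ m * C' b * (h * h ^ m)⁻¹ = h * (h ^ m * C' b * (h ^ m)⁻¹) * h⁻¹ by group,
        ih]
      show h * phi h x _ * h⁻¹ = phi h x _
      rw [← hg.phi_aut _ e2, ← e1, show (m % 15 + 1) % 15 = (m + 1) % 15 by omega]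
  have hpm : ∀ m : ℕ, h ^ m • p = p := fun m => by
    induction m with
    | zero => rw [pow_zero, one_smul]
    | succ m ih => rw [pow_succ, mul_smul, hfix, ih]
  have hsm : ∀ m b, b < 64 → h ^ m • (C' b • p) = C' (pw (m % 15) b) • p := by
    intro m b hb
    rw [← hconj m b hb]
    conv_rhs => rw [mul_smul, show (h ^ m)⁻¹ • p = p by conv_lhs => rw [← hpm m, inv_smul_smul]]
    rw [mul_smul]
  have hinj : ∀ a b, a < 64 → b < 64 → C' a • p = C' b • p → a = b := by
    intro a b ha hb e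
    refine hg.phi_injective a ha b hb (by_contra fun hne => hp (H₀.semireg
      (mul_mem (inv_mem (hg.phi_mem b)) (hg.phi_mem a)) (fun h' => hne (inv_mul_eq_one.1 h').symm) ?_))
    rw [mul_smul]
    exact (congrArg ((phi h x b)⁻¹ • ·) e).trans (inv_smul_smul _ _)
  have hbase : ∀ b, C' b • p ≠ base S := by
    intro b e
    refine hp ?_
    rw [← inv_smul_smul (C' b) p, e]
    exact smul_base_iff.2 (inv_mem (Subgroup.le_normalizer (hg.phi_mem b)))
  have himg : ∀ b, b = 16 ∨ b = 32 ∨ b = 48 →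
      ∃ c, (c = 16 ∨ c = 32 ∨ c = 48) ∧ w • (C' b • p) = C' c • p := by
    intro b hb
    have hb64 : b < 64 ∧ b ≠ 0 := by omega
    have hne : w • (C' b • p) ≠ base S := by
      intro e
      have e' : C' b • p = C' 0 • p := by
        rw [show C' 0 = 1 from Gens.phi_zero, one_smul]
        have := congrArg (w • ·) e
        simp only [← mul_smul w w, hw2, one_smul, hwb] at this
        exact this
      exact hb64.2 (hinj _ _ hb64.1 (by norm_num) e')
    obtain ⟨s, hs, hs'⟩ := H₀.regular hp hne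
    obtain ⟨c, hc, rfl⟩ := hg.phi_surjective hs
    refine ⟨c, ?_, hs'.symm⟩
    have hc0 : c ≠ 0 := by
      rintro rfl
      rw [Gens.phi_zero, one_smul] at hs'
      refine hbase b ?_
      rw [← one_smul G (C' b • p), ← hw2, mul_smul, ← hs', hwp]
    -- the fixed points of the element of order five
    have hfx : pw 3 b = b := (fix_three b hb64.1).2 (by rcases hb with rfl | rfl | rfl <;> decide)
    have hcz : pw 3 c = c := by
      refine hinj _ _ (pw_succ 3 (by norm_num) c hc).2 hc ?_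
      rw [← show (3 % 15 : ℕ) = 3 from rfl, ← hsm 3 c hc, show C' c • p = w • (C' b • p) from hs']
      have hk3 : (k * 3 * k) % 15 = 3 := by
        have := hk2
        rcases square_one k hk hk2 with rfl | rfl | rfl | rfl <;> norm_num
      have hcomm : h ^ 3 * w = w * h ^ (k * 3) := by
        have e3 : h ^ (k * (k * 3)) = h ^ 3 := by
          rw [← pow_mod_orderOf, hord, show k * (k * 3) = k * 3 * k by ring, hk3]
        rw [← e3, ← hcp (k * 3), inv_mul_cancel_right]
      rw [← mul_smul, hcomm, mul_smul, hsm _ b hb64.1]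
      congr 2
      have hfix3 : ∀ k, pw ((k * 3) % 15) b = b := by
        intro k
        have h3 : (k * 3) % 15 = 3 * (k % 5) := by omega
        rw [h3]
        have hk5 : k % 5 < 5 := Nat.mod_lt _ (by norm_num)
        revert hk5
        generalize k % 5 = r
        intro hr
        rcases hb with rfl | rfl | rfl <;> revert r <;> decide +kernel
      exact congrArg C' (hfix3 k)
    rcases center_points c hc ((fix_three c hc).1 hcz) with e | e | e | e
    · exact absurd e hc0
    · exact Or.inl e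
    · exact Or.inr (Or.inl e)
    · exact Or.inr (Or.inr e)
  obtain ⟨d, hd, hdfix⟩ : ∃ d, (d = 16 ∨ d = 32 ∨ d = 48) ∧ w • (C' d • p) = C' d • p := by
    obtain ⟨c, hc, hc'⟩ := himg 16 (Or.inl rfl)
    obtain ⟨c2, hc2, hc2'⟩ := himg 32 (Or.inr (Or.inl rfl))
    obtain ⟨c3, hc3, hc3'⟩ := himg 48 (Or.inr (Or.inr rfl))
    have hsym : ∀ a b, w • (C' a • p) = C' b • p → w • (C' b • p) = C' a • p := fun a b e => by
      rw [← e, ← mul_smul, hw2, one_smul]
    have huniq : ∀ a b b', b < 64 → b' < 64 → w • (C' a • p) = C' b • p → w • (C' a • p) = C' b' • p → b = b' :=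
      fun a b b' hb hb' e e' => hinj b b' hb hb' (e.symm.trans e')
    rcases hc with rfl | rfl | rfl
    · exact ⟨16, Or.inl rfl, hc'⟩
    · rcases hc3 with rfl | rfl | rfl
      · exact absurd (huniq 16 32 48 (by norm_num) (by norm_num) hc' (hsym _ _ hc3')) (by norm_num)
      · exact absurd (huniq 32 16 48 (by norm_num) (by norm_num) (hsym _ _ hc') (hsym _ _ hc3')) (by norm_num)
      · exact ⟨48, Or.inr (Or.inr rfl), hc3'⟩
    · rcases hc2 with rfl | rfl | rfl
      · exact absurd (huniq 16 48 32 (by norm_num) (by norm_num) hc' (hsym _ _ hc2')) (by norm_num)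
      · exact ⟨32, Or.inr (Or.inl rfl), hc2'⟩
      · exact absurd (huniq 48 16 32 (by norm_num) (by norm_num) (hsym _ _ hc') (hsym _ _ hc2')) (by norm_num)
  obtain ⟨j, hj, rfl⟩ : ∃ j, j < 15 ∧ pw j 16 = d := by
    rcases hd with rfl | rfl | rfl
    exacts [⟨0, by norm_num, pw_center.2.2⟩, ⟨1, by norm_num, pw_center.1⟩, ⟨2, by norm_num, pw_center.2.1⟩]
  refine ⟨{
    p := p, x := x, h := h, w := (h ^ j)⁻¹ * w * h ^ j, k := k
    p_ne := hp, h_mem := hh, h_fix := hfix, gens := hg, stab := hstab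
    w_sq := ?_, w_base := ?_, w_p := ?_, k_lt := hk, k_sq := hk2, twist := ?_, w_fix := ?_ }⟩
  · rw [show (h ^ j)⁻¹ * w * h ^ j * ((h ^ j)⁻¹ * w * h ^ j) = (h ^ j)⁻¹ * (w * w) * h ^ j by group, hw2,
      mul_one, inv_mul_cancel]
  · rw [mul_smul, smul_base_iff.2 (pow_mem hh j), mul_smul, hwb]
    conv_lhs => rw [← hpm j, inv_smul_smul]
  · rw [mul_smul, hpm j, mul_smul, hwp]
    exact smul_base_iff.2 (inv_mem (pow_mem hh j))
  · rw [show (h ^ j)⁻¹ * w * h ^ j * h * ((h ^ j)⁻¹ * w * h ^ j)⁻¹ =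
      (h ^ j)⁻¹ * (w * h * w⁻¹) * h ^ j by group, hk']
    group
  · show ((h ^ j)⁻¹ * w * h ^ j) • (C' 16 • p) = C' 16 • p
    rw [mul_smul, hsm j 16 (by norm_num), Nat.mod_eq_of_lt hj, mul_smul, hdfix, inv_smul_eq_iff,
      hsm j 16 (by norm_num), Nat.mod_eq_of_lt hj]

/-- Every group with the hypotheses is isomorphic to the model group. -/
theorem Hyp.equiv_model (H₀ : Hyp G S Z) : Nonempty (G ≃* modelGroup) := by
  classical
  obtain ⟨C⟩ := H₀.exists_coord
  let e : Fin 65 ≃ (G ⧸ normalizer ((S : Subgroup G) : Set G)) := Equiv.ofBijective (fun b => C.pt b)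
    ⟨fun a b he => Fin.ext (C.pt_injective H₀ a.2 b.2 he),
     fun q => by obtain ⟨b, hb, he⟩ := C.pt_surjective H₀ q; exact ⟨⟨b, hb⟩, he⟩⟩
  let ρ : G →* Equiv.Perm (Fin 65) :=
    (e.symm.permCongrHom.toMonoidHom).comp (MulAction.toPermHom G (G ⧸ normalizer ((S : Subgroup G) : Set G)))
  have hρ : ∀ g i, C.pt (ρ g i : ℕ) = g • C.pt i := fun g i => e.apply_symm_apply _
  have hρeq : ∀ g i (b : ℕ), b < 65 → g • C.pt i = C.pt b → i < 65 →
      ∀ hi : i < 65, (ρ g ⟨i, hi⟩ : ℕ) = b := fun g i b hb he _ hi =>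
    C.pt_injective H₀ (ρ g ⟨i, hi⟩).2 hb ((hρ g ⟨i, hi⟩).trans he)
  have hρinj : Function.Injective ρ := by
    refine (injective_iff_map_eq_one ρ).2 fun g hg => ?_
    have hall : ∀ q : G ⧸ normalizer ((S : Subgroup G) : Set G), g • q = q := by
      intro q
      obtain ⟨b, hb, rfl⟩ := C.pt_surjective H₀ q
      have := hρ g ⟨b, hb⟩
      rw [hg] at this
      exact this.symm
    obtain ⟨m, hm, rfl⟩ := C.stab g (smul_base_iff.1 (hall _)) (hall _)
    by_contra hne
    have hm0 : 0 < m := Nat.pos_of_ne_zero fun e => hne (by rw [e, pow_zero])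
    -- a power of `h` fixing everything centralizes the Sylow subgroup
    have h1 := hall (C.pt 1)
    rw [C.h_pow_smul m (by norm_num), Nat.mod_eq_of_lt hm] at h1
    have h2 := C.pt_injective H₀ (by have := (pw_succ m hm 1 (by norm_num)).2; omega) (by norm_num) h1
    exact absurd h2 ((by decide +kernel : ∀ m < 15, 0 < m → pw m 1 ≠ 1) m hm hm0)
  have hU := C.U_eq_good H₀
  have g1 : ∀ i : Fin 65, (ρ (phi C.h C.x 1) i : ℕ) = ltr 1 i := fun i => by
    refine hρeq _ i _ ?_ (C.phi_smul (by norm_num) i.2) i.2 i.2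
    rw [ltr]; split
    · norm_num
    · have := mul_lt 1 (by norm_num) i (by omega); omega
  have g2 : ∀ i : Fin 65, (ρ C.h i : ℕ) = if (i : ℕ) = 64 then 64 else aut i := fun i => by
    by_cases hi : (i : ℕ) = 64
    · rw [if_pos hi]
      exact hρeq _ i _ (by norm_num) (by rw [hi, C.pt_last]; exact smul_base_iff.2 C.h_mem) i.2 i.2
    · rw [if_neg hi]
      have hi' : (i : ℕ) < 64 := by omega
      refine hρeq _ i _ (by have := aut_lt i hi'; omega) ?_ i.2 i.2
      have := C.h_pow_smul 1 hi'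
      rw [pow_one] at this
      rw [this, show 1 % 15 = (0 + 1) % 15 from rfl, (pw_succ 0 (by norm_num) i hi').1, pw_zero i hi']
  have g3 : ∀ i : Fin 65, (ρ C.w i : ℕ) = good i := fun i => by
    refine hρeq _ i _ ?_ ?_ i.2 i.2
    · rw [← hU i i.2]; exact C.U_lt H₀ i
    · rw [← hU i i.2, C.pt_U H₀]
  have hext : ∀ (σ τ : Equiv.Perm (Fin 65)) (f : Fin 65 → ℕ),
      (∀ i, (σ i : ℕ) = f i) → (∀ i, (τ i : ℕ) = f i) → σ = τ :=
    fun σ τ f h1 h2 => Equiv.ext fun i => Fin.ext ((h1 i).trans (h2 i).symm)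
  have hmem : ∀ g, ρ g ∈ modelGroup := by
    set K := modelGroup.comap ρ with hK
    have k1 : phi C.h C.x 1 ∈ K := Subgroup.subset_closure (Or.inl g1)
    have k2 : C.h ∈ K := Subgroup.subset_closure (Or.inr (Or.inl g2))
    have k3 : C.w ∈ K := Subgroup.subset_closure (Or.inr (Or.inr g3))
    have kaut : ∀ b < 64, phi C.h C.x b ∈ K → phi C.h C.x (aut b) ∈ K := fun b hb h => by
      rw [C.gens.phi_aut b hb]; exact mul_mem (mul_mem k2 h) (inv_mem k2)
    have hlt : ∀ i < 7, gens.getD i 0 < 64 := by decide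
    have kg : ∀ i < 7, phi C.h C.x (gens.getD i 0) ∈ K := by
      have a1 := kaut 1 (by norm_num) k1
      have a2 := kaut _ (aut_lt 1 (by norm_num)) a1
      have a3 := kaut _ (aut_lt _ (aut_lt 1 (by norm_num))) a2
      have a4 : phi C.h C.x (mul 1 1) ∈ K := by
        rw [C.gens.phi_mul 1 (by norm_num) 1 (by norm_num)]; exact mul_mem k1 k1
      have a5 := kaut _ (mul_lt 1 (by norm_num) 1 (by norm_num)) a4
      have a6 := kaut _ (aut_lt _ (mul_lt 1 (by norm_num) 1 (by norm_num))) a5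
      intro i hi
      interval_cases i
      exacts [k1, a1, a2, a3, a4, a5, a6]
    have kS : ∀ b < 64, phi C.h C.x b ∈ K := by
      intro b
      induction b using Nat.strong_induction_on with
      | _ b ih =>
        intro hb
        by_cases hb0 : b = 0
        · rw [hb0, Gens.phi_zero]; exact one_mem _
        obtain ⟨q, hq, hqb, i, hi, hqi⟩ := build b hb hb0
        subst hqi
        rw [C.gens.phi_mul _ (hlt i hi) q hq]
        exact mul_mem (ih q hqb hq) (kg i hi)
    have kN : ∀ n ∈ normalizer ((S : Subgroup G) : Set G), n ∈ K := by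
      intro n hn
      have hne : n • C.p ≠ base S := fun he => C.p_ne (by
        rw [← inv_smul_smul n C.p, he]
        exact smul_base_iff.2 (inv_mem hn))
      obtain ⟨s, hs, hs'⟩ := H₀.regular C.p_ne hne
      obtain ⟨m, -, hm⟩ := C.stab (s⁻¹ * n) (mul_mem (inv_mem (Subgroup.le_normalizer hs)) hn)
        (by rw [mul_smul, ← hs', inv_smul_smul])
      obtain ⟨b, hb, rfl⟩ := C.gens.phi_surjective hs
      rw [show n = phi C.h C.x b * C.h ^ m by rw [← hm, mul_inv_cancel_left]]
      exact mul_mem (kS b hb) (pow_mem k2 m)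
    intro g
    by_cases hg : g • base S = base S
    · exact kN g (smul_base_iff.1 hg)
    obtain ⟨s, hs, hs'⟩ := H₀.regular C.p_ne hg
    have hn : (s * C.w)⁻¹ * g ∈ normalizer ((S : Subgroup G) : Set G) := smul_base_iff.1 (by
      rw [mul_smul, ← hs', inv_smul_eq_iff, mul_smul, C.w_base])
    obtain ⟨b, hb, rfl⟩ := C.gens.phi_surjective hs
    have := mul_mem (mul_mem (kS b hb) k3) (kN _ hn)
    rwa [mul_inv_cancel_left] at this
  have hrange : ρ.range = modelGroup := by
    refine le_antisymm ?_ ?_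
    · rintro _ ⟨g, rfl⟩
      exact hmem g
    · rw [modelGroup, Subgroup.closure_le]
      rintro σ (hσ | hσ | hσ)
      · exact ⟨_, hext _ _ _ g1 hσ⟩
      · exact ⟨_, hext _ _ _ g2 hσ⟩
      · exact ⟨_, hext _ _ _ g3 hσ⟩
  exact ⟨(MonoidHom.ofInjective hρinj).trans (MulEquiv.subgroupCongr hrange)⟩

end

end CfsgLib.Invol.UThreeFour.Recog
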