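import Mathlib

/-!
An automorphism of an elementary abelian group of order sixteen which moves one element through
fifteen non-trivial elements satisfies `T⁴ e = e · T e` or `T⁴ e = e · T³ e`.
-/

set_option autoImplicit false

namespace CfsgLib.Invol.UThreeFour.Recog

variable {V : Type*} [CommGroup V]

/-- `v` or `1`, according to a bit. -/
def pick (b : Bool) (v : V) : V := if b then v else 1

theorem xor_eq_zero_iff {a b : ℕ} (h : a ^^^ b = 0) : a = b := by
  have := congrArg (a ^^^ ·) h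
  simp only [← Nat.xor_assoc, Nat.xor_self, Nat.zero_xor, Nat.xor_zero] at this
  exact this.symm

/-- The combination of four elements with the bits of `b`. -/
def comb (e : ℕ → V) (b : ℕ) : V :=
  pick (b.testBit 0) (e 0) * pick (b.testBit 1) (e 1) * pick (b.testBit 2) (e 2) *
    pick (b.testBit 3) (e 3)

theorem pick_mul (h2 : ∀ v : V, v * v = 1) (b c : Bool) (v : V) :
    pick b v * pick c v = pick (b ^^ c) v := by
  cases b <;> cases c <;> simp [pick, h2]

theorem comb_mul (h2 : ∀ v : V, v * v = 1) (e : ℕ → V) (b c : ℕ) :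
    comb e b * comb e c = comb e (b ^^^ c) := by
  simp only [comb, Nat.testBit_xor]
  rw [← pick_mul h2, ← pick_mul h2, ← pick_mul h2, ← pick_mul h2]
  ac_rfl

theorem map_pick (T : V →* V) (b : Bool) (v : V) : T (pick b v) = pick b (T v) := by
  cases b <;> simp [pick]

/-- Image of the combination `b < 2 ^ i` when `Tⁱ e` is the combination `c`. -/
def step (i c b : ℕ) : ℕ := if b.testBit (i - 1) then (b <<< 1) ^^^ (2 ^ i) ^^^ c else b <<< 1

/-- The orbit of `1` under `step`. -/
def orb (i c : ℕ) : ℕ → ℕ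
  | 0 => 1
  | m + 1 => step i c (orb i c m)

/-- The orbit of `1` under `step` does not return early and avoids zero. -/
def longOrbit (i c : ℕ) : Bool :=
  (List.range 15).all fun m => orb i c m != 0 && (List.range m).all fun n => orb i c n != orb i c m

theorem longOrbit_small : ∀ i < 4, 1 ≤ i → ∀ c < 2 ^ i,
    longOrbit i c = false ∧ ∀ b < 2 ^ i, step i c b < 2 ^ i := by decide +kernel

theorem longOrbit_four : ∀ c < 16, longOrbit 4 c = true → c = 3 ∨ c = 9 := by decide +kernel

theorem step_lt : ∀ c < 16, ∀ b < 16, step 4 c b < 16 := by decide +kernel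

theorem shift_bits : ∀ b < 8, (b <<< 1).testBit 0 = false ∧ (b <<< 1).testBit 1 = b.testBit 0 ∧
    (b <<< 1).testBit 2 = b.testBit 1 ∧ (b <<< 1).testBit 3 = b.testBit 2 ∧ b.testBit 3 = false := by
  decide +kernel

theorem testBit_low : ∀ i < 4, 1 ≤ i → ∀ b < 2 ^ i, b < 8 ∧
    ∀ c < 2 ^ i, b.testBit (i - 1) = true → (b <<< 1) = ((b <<< 1) ^^^ (2 ^ i) ^^^ c) ^^^ (2 ^ i ^^^ c) := by
  decide +kernel

theorem step_four : ∀ c < 16, ∀ b < 16,
    ((b &&& 7) <<< 1) = step 4 c b ^^^ (if b.testBit 3 then c else 0) := by decide +kernel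

theorem low_part : ∀ b < 16, b &&& 7 < 8 ∧ b = (b &&& 7) ^^^ (if b.testBit 3 then 8 else 0) := by
  decide +kernel

section

variable (h2 : ∀ v : V, v * v = 1) (T : V →* V) (e : V)

theorem comb_pow_two (i : ℕ) (hi : i < 4) : comb (fun j => T^[j] e) (2 ^ i) = T^[i] e := by
  interval_cases i <;> simp [comb, pick, Nat.testBit]

theorem map_comb {b : ℕ} (hb : b < 8) :
    T (comb (fun j => T^[j] e) b) = comb (fun j => T^[j] e) (b <<< 1) := by
  obtain ⟨h0, h1, h2', h3, h4⟩ := shift_bits b hb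
  simp only [comb, map_mul, map_pick, ← Function.iterate_succ_apply' T, h0, h1, h2', h3, h4]
  simp [pick]

include h2 in
theorem map_step {i c b : ℕ} (hi : i < 4) (hi1 : 1 ≤ i) (hc : c < 2 ^ i) (hb : b < 2 ^ i)
    (he : T^[i] e = comb (fun j => T^[j] e) c) :
    T (comb (fun j => T^[j] e) b) = comb (fun j => T^[j] e) (step i c b) := by
  obtain ⟨hb8, hbit⟩ := testBit_low i hi hi1 b hb
  rw [map_comb T e hb8, step]
  split
  · next ht =>
    have h1 : comb (fun j => T^[j] e) (2 ^ i ^^^ c) = 1 := by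
      rw [← comb_mul h2, comb_pow_two T e i hi, he, h2]
    conv_lhs => rw [hbit c hc ht, ← comb_mul h2, h1, mul_one]
  · rfl

include h2 in
theorem map_four {c b : ℕ} (hc : c < 16) (hb : b < 16)
    (he : T^[4] e = comb (fun j => T^[j] e) c) :
    T (comb (fun j => T^[j] e) b) = comb (fun j => T^[j] e) (step 4 c b) := by
  obtain ⟨hb7, hbd⟩ := low_part b hb
  have h := step_four c hc b hb
  rw [hbd, ← comb_mul h2, map_mul, map_comb T e hb7, h, ← comb_mul h2, ← hbd, mul_assoc]
  refine mul_eq_left.2 ?_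
  cases b.testBit 3
  · simp [comb, pick]
  · simp only [if_true]
    rw [show (8 : ℕ) = 2 ^ 3 from rfl, comb_pow_two T e 3 (by norm_num),
      ← Function.iterate_succ_apply' T, he, h2]

variable (inj : ∀ m < 15, ∀ n < 15, T^[m] e = T^[n] e → m = n) (ne : ∀ m < 15, T^[m] e ≠ 1)

include inj ne in
theorem longOrbit_of {i c : ℕ} (hone : 1 < 2 ^ i) (hlt : ∀ b < 2 ^ i, step i c b < 2 ^ i)
    (hstep : ∀ b < 2 ^ i, T (comb (fun j => T^[j] e) b) = comb (fun j => T^[j] e) (step i c b)) :
    longOrbit i c = true := by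
  have hm : ∀ m, orb i c m < 2 ^ i ∧ T^[m] e = comb (fun j => T^[j] e) (orb i c m) := by
    intro m
    induction m with
    | zero => exact ⟨hone, by simp [orb, comb, pick, Nat.testBit]⟩
    | succ m ih =>
      refine ⟨hlt _ ih.1, ?_⟩
      rw [Function.iterate_succ_apply', ih.2, hstep _ ih.1, orb]
  simp only [longOrbit, List.all_eq_true, List.mem_range, Bool.and_eq_true, bne_iff_ne]
  intro m hm15
  refine ⟨fun h0 => ne m hm15 ?_, fun n hn heq => ?_⟩
  · rw [(hm m).2, h0]; simp [comb, pick]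
  · have := inj n (hn.trans hm15) m hm15 (by rw [(hm m).2, (hm n).2, heq])
    omega

include h2 inj ne in
theorem comb_ne_one {b : ℕ} (hb : b < 16) (hb0 : b ≠ 0) : comb (fun j => T^[j] e) b ≠ 1 := by
  intro h
  obtain ⟨i, hi, hlo, hhi⟩ : ∃ i, i < 4 ∧ 2 ^ i ≤ b ∧ b < 2 ^ (i + 1) := by
    refine ⟨Nat.log 2 b, ?_, Nat.pow_log_le_self 2 hb0, Nat.lt_pow_succ_log_self (by norm_num) b⟩
    exact Nat.log_lt_of_lt_pow hb0 (by norm_num; exact hb)
  have hc : b ^^^ 2 ^ i < 2 ^ i := by
    interval_cases i <;> interval_cases b <;> decide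
  have he : T^[i] e = comb (fun j => T^[j] e) (b ^^^ 2 ^ i) := by
    have h' := comb_mul h2 (fun j => T^[j] e) b (2 ^ i)
    rw [h, one_mul, comb_pow_two T e i hi] at h'
    exact h'
  rcases Nat.eq_zero_or_pos i with rfl | hi1
  · refine ne 0 (by norm_num) ?_
    rw [he]
    simp only [pow_zero] at hc ⊢
    rw [show b ^^^ 1 = 0 by omega]; simp [comb, pick]
  · obtain ⟨hf, hlt⟩ := longOrbit_small i hi hi1 _ hc
    rw [longOrbit_of T e inj ne (Nat.one_lt_two_pow (by omega)) hlt
      fun x hx => map_step h2 T e hi hi1 hc hx he] at hf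
    cases hf

include h2 inj ne in
theorem comb_injective : Function.Injective fun b : Fin 16 => comb (fun j => T^[j] e) b := by
  intro a b h
  refine Fin.ext (by_contra fun hab => ?_)
  refine comb_ne_one h2 T e inj ne (b := (a : ℕ) ^^^ (b : ℕ)) (Nat.xor_lt_two_pow (n := 4) a.2 b.2)
    (fun h0 => hab (xor_eq_zero_iff h0)) ?_
  rw [← comb_mul h2]
  have h' : comb (fun j => T^[j] e) a = comb (fun j => T^[j] e) b := h
  rw [h', h2]

include h2 inj ne in
theorem relation [Finite V] (hV : Nat.card V = 16) :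
    T^[4] e = e * T e ∨ T^[4] e = e * T^[3] e := by
  have hb := (Nat.bijective_iff_injective_and_card _).2
    ⟨comb_injective h2 T e inj ne, by rw [Nat.card_fin, hV]⟩
  obtain ⟨⟨c, hc⟩, hec⟩ := hb.2 (T^[4] e)
  have hlo : longOrbit 4 c = true := longOrbit_of T e inj ne (by norm_num) (step_lt c hc)
    fun b hb' => map_four h2 T e hc hb' hec.symm
  rcases longOrbit_four c hc hlo with rfl | rfl
  · left; rw [← hec]; simp [comb, pick, Nat.testBit]
  · right; rw [← hec]; simp [comb, pick, Nat.testBit]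

end

end CfsgLib.Invol.UThreeFour.Recog
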