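import Cfsg.Agent.Lib.Invol.UThreeFour.Central
import Cfsg.Agent.Lib.Invol.UThreeFour.Recog.Cyclic
import Cfsg.Agent.Lib.Invol.UThreeFour.Recog.Model

/-!
Coordinates on a Sylow 2-subgroup of type PSU(3,4) with an automorphism of order fifteen: its
multiplication and the automorphism are those of the model.
-/

set_option autoImplicit false
set_option linter.unusedSectionVars false
set_option linter.style.haveILetI false

namespace CfsgLib.Invol.UThreeFour.Recog

open Subgroup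

universe u

variable {G : Type u} [Group G] [Finite G] {S Z : Subgroup G}

/-- A generator `h` of the automorphisms and an element `x` of order four in normal position. -/
structure Gens (S Z : Subgroup G) (x h : G) : Prop where
  shape : UShape S Z
  xS : x ∈ S
  xZ : x ∉ Z
  norm : ∀ s ∈ S, h * s * h⁻¹ ∈ S
  h15 : h ^ 15 = 1
  freeZ : ∀ t ∈ Z, t ≠ 1 → h * t ≠ t * h
  free : ∀ m < 15, 0 < m → x⁻¹ * (h ^ m * x * (h ^ m)⁻¹) ∉ Z
  rel : h ^ 4 * x * (h ^ 4)⁻¹ = x * (h * x * h⁻¹)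

theorem conj_mem_Z (hS : UShape S Z) {h t : G} (hn : ∀ s ∈ S, h * s * h⁻¹ ∈ S) (ht : t ∈ Z) :
    h * t * h⁻¹ ∈ Z := by
  refine (hS.invol _ (hn t (hS.le ht))).1 ?_
  rw [show h * t * h⁻¹ * (h * t * h⁻¹) = h * (t * t) * h⁻¹ by group, hS.mem_sq ht, mul_one,
    mul_inv_cancel]

theorem pow_conj_mem {h : G} (hn : ∀ s ∈ S, h * s * h⁻¹ ∈ S) (m : ℕ) {s : G} (hs : s ∈ S) :
    h ^ m * s * (h ^ m)⁻¹ ∈ S := by
  induction m with
  | zero => simpa using hs
  | succ m ih =>
    rw [pow_succ', show h * h ^ m * s * (h * h ^ m)⁻¹ = h * (h ^ m * s * (h ^ m)⁻¹) * h⁻¹ by group]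
    exact hn _ ih

theorem pow_conj_mem_Z (hS : UShape S Z) {h : G} (hn : ∀ s ∈ S, h * s * h⁻¹ ∈ S) (m : ℕ) {t : G}
    (ht : t ∈ Z) : h ^ m * t * (h ^ m)⁻¹ ∈ Z := by
  induction m with
  | zero => simpa using ht
  | succ m ih =>
    rw [pow_succ', show h * h ^ m * t * (h * h ^ m)⁻¹ = h * (h ^ m * t * (h ^ m)⁻¹) * h⁻¹ by group]
    exact conj_mem_Z hS hn ih

/-- Action of `h` on the three involutions of the centre. -/
theorem cycle_Z (hS : UShape S Z) {h t : G} (hn : ∀ s ∈ S, h * s * h⁻¹ ∈ S) (h15 : h ^ 15 = 1)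
    (hfree : ∀ t ∈ Z, t ≠ 1 → h * t ≠ t * h) (ht : t ∈ Z) (ht1 : t ≠ 1) :
    h * (h * t * h⁻¹) * h⁻¹ = t * (h * t * h⁻¹) := by
  have hw := conj_mem_Z hS hn ht
  have hw1 : h * t * h⁻¹ ≠ 1 := fun e => ht1 (conj_eq_one_iff.1 e)
  have hwt : h * t * h⁻¹ ≠ t := fun e => hfree t ht ht1 (mul_inv_eq_iff_eq_mul.1 e)
  rcases hS.four_elts ht ht1 hw hw1 hwt (conj_mem_Z hS hn hw) with e | e | e | e
  · exact absurd (conj_eq_one_iff.1 e) hw1
  · exfalso
    refine hfree t ht ht1 ?_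
    have h2 : Commute (h ^ 2) t := mul_inv_eq_iff_eq_mul.1 (by
      rw [pow_two, show h * h * t * (h * h)⁻¹ = h * (h * t * h⁻¹) * h⁻¹ by group, e])
    have := h2.pow_left 8
    rw [← pow_mul, show 2 * 8 = 15 + 1 from rfl, pow_succ, h15, one_mul] at this
    exact this
  · exact absurd (mul_inv_eq_iff_eq_mul.1 e) (hfree _ hw hw1)
  · exact e

/-- Normal position can be reached. -/
theorem exists_gens (hS : UShape S Z) {h : G} (hn : ∀ s ∈ S, h * s * h⁻¹ ∈ S)
    (h15 : h ^ 15 = 1) (hfreeZ : ∀ t ∈ Z, t ≠ 1 → h * t ≠ t * h)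
    (hfree : ∀ m < 15, 0 < m → ∀ s ∈ S, s ∉ Z → s⁻¹ * (h ^ m * s * (h ^ m)⁻¹) ∉ Z) :
    ∃ x h', (h' = h ∨ h' = h⁻¹) ∧ Gens S Z x h' := by
  classical
  obtain ⟨x, hxS, hxZ⟩ : ∃ x ∈ S, x ∉ Z := by
    by_contra hc
    push Not at hc
    have := Subgroup.card_le_of_le (H := S) (K := Z) hc
    rw [hS.cardS, hS.cardZ] at this
    omega
  set N : Subgroup S := Z.subgroupOf S with hN
  haveI : N.Normal := ⟨fun n hmem g => by
    rw [hN, mem_subgroupOf] at hmem ⊢
    simpa [hS.conj_Z g.2 hmem] using hmem⟩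
  have hsq : ∀ q : S ⧸ N, q * q = 1 := by
    intro q
    obtain ⟨s, rfl⟩ := QuotientGroup.mk_surjective q
    rw [← QuotientGroup.mk_mul, QuotientGroup.eq_one_iff]
    exact hS.sq_mem s s.2
  letI : CommGroup (S ⧸ N) :=
    { (inferInstance : Group (S ⧸ N)) with
      mul_comm := fun a b => by
        have hi : ∀ q : S ⧸ N, q⁻¹ = q := fun q => inv_eq_of_mul_eq_one_left (hsq q)
        calc a * b = (a * b)⁻¹ := (hi _).symm
          _ = b⁻¹ * a⁻¹ := mul_inv_rev a b
          _ = b * a := by rw [hi, hi] }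
  let c : S →* S :=
    { toFun := fun s => ⟨h * s * h⁻¹, hn s s.2⟩
      map_one' := Subtype.ext (by simp)
      map_mul' := fun a b => Subtype.ext (by simp [mul_assoc]) }
  let T : S ⧸ N →* S ⧸ N := QuotientGroup.map N N c (fun s hs => by
    rw [hN, mem_comap, mem_subgroupOf]
    exact conj_mem_Z hS hn hs)
  set e : S ⧸ N := ((⟨x, hxS⟩ : S) : S ⧸ N) with he
  have hit : ∀ m, T^[m] e = ((⟨h ^ m * x * (h ^ m)⁻¹, pow_conj_mem hn m hxS⟩ : S) : S ⧸ N) := by
    intro m
    induction m with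
    | zero => simp [he]
    | succ m ih =>
      rw [Function.iterate_succ_apply', ih]
      show QuotientGroup.map N N c _ _ = _
      rw [QuotientGroup.map_mk]
      congr 1
      refine Subtype.ext ?_
      show h * (h ^ m * x * (h ^ m)⁻¹) * h⁻¹ = h ^ (m + 1) * x * (h ^ (m + 1))⁻¹
      rw [pow_succ']
      group
  have hne : ∀ m < 15, T^[m] e ≠ 1 := by
    intro m _ hc
    rw [hit, QuotientGroup.eq_one_iff, hN, mem_subgroupOf] at hc
    refine hxZ ?_
    have := pow_conj_mem_Z hS hn (m * 14) hc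
    rw [show h ^ (m * 14) * (h ^ m * x * (h ^ m)⁻¹) * (h ^ (m * 14))⁻¹ =
        h ^ (m * 14 + m) * x * (h ^ (m * 14 + m))⁻¹ by rw [pow_add]; group,
      show m * 14 + m = 15 * m by ring, pow_mul, h15] at this
    simpa using this
  have hinj : ∀ m < 15, ∀ n < 15, T^[m] e = T^[n] e → m = n := by
    have key : ∀ m < 15, ∀ n < 15, m < n → T^[m] e ≠ T^[n] e := by
      intro m hm n hn' hmn hc
      rw [hit, hit, QuotientGroup.eq, hN, mem_subgroupOf] at hc
      refine hfree (n - m) (by omega) (by omega) (h ^ m * x * (h ^ m)⁻¹) (pow_conj_mem hn m hxS)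
        (fun hz => hne m hm ?_) ?_
      · rw [hit, QuotientGroup.eq_one_iff, hN, mem_subgroupOf]; exact hz
      · rw [show h ^ (n - m) * (h ^ m * x * (h ^ m)⁻¹) * (h ^ (n - m))⁻¹ =
            h ^ (n - m + m) * x * (h ^ (n - m + m))⁻¹ by rw [pow_add]; group,
          Nat.sub_add_cancel hmn.le]
        exact hc
    intro m hm n hn' hc
    rcases lt_trichotomy m n with hlt | heq | hgt
    · exact absurd hc (key m hm n hn' hlt)
    · exact heq
    · exact absurd hc.symm (key n hn' m hm hgt)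
  have hcard : Nat.card (S ⧸ N) = 16 := by
    have := Subgroup.card_eq_card_quotient_mul_card_subgroup N
    have h4 : Nat.card N = 4 := by
      rw [hN, Nat.card_congr (Subgroup.subgroupOfEquivOfLe hS.le).toEquiv, hS.cardZ]
    rw [hS.cardS, h4] at this
    omega
  have h14 : h ^ 14 = h⁻¹ := by
    refine eq_inv_of_mul_eq_one_left ?_
    rw [← pow_succ, h15]
  -- the generator giving the first polynomial
  obtain ⟨h', hh', k, hk, hk15, hrel⟩ : ∃ h', (h' = h ∨ h' = h⁻¹) ∧ ∃ k, h' = h ^ k ∧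
      (∀ m < 15, 0 < m → 0 < k * m % 15) ∧ T^[k * 4] e = e * T^[k] e := by
    rcases relation hsq T e hinj hne hcard with hr | hr
    · exact ⟨h, Or.inl rfl, 1, (pow_one h).symm, fun m hm hm0 => by omega, by simpa using hr⟩
    · refine ⟨h⁻¹, Or.inr rfl, 14, h14.symm, fun m hm hm0 => by omega, ?_⟩
      have hper : ∀ j, T^[15 + j] e = T^[j] e := by
        intro j
        rw [hit, hit]
        congr 1
        refine Subtype.ext ?_
        show h ^ (15 + j) * x * (h ^ (15 + j))⁻¹ = h ^ j * x * (h ^ j)⁻¹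
        rw [pow_add, h15, one_mul]
      have h' := congrArg (T^[11]) hr
      rw [← Function.iterate_add_apply, iterate_map_mul, ← Function.iterate_add_apply] at h'
      simp only [show 11 + 4 = 15 from rfl, show 11 + 3 = 14 from rfl] at h'
      rw [show T^[15] e = e by simpa using hper 0] at h'
      have e56 : T^[14 * 4] e = T^[11] e := by
        rw [show 14 * 4 = 15 + (15 + (15 + 11)) from rfl, hper, hper, hper]
      rw [e56]
      calc T^[11] e = T^[11] e * (T^[14] e * T^[14] e) := by rw [hsq, mul_one]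
        _ = T^[11] e * T^[14] e * T^[14] e := (mul_assoc _ _ _).symm
        _ = e * T^[14] e := by rw [← h']
  have hn' : ∀ s ∈ S, h' * s * h'⁻¹ ∈ S := fun s hs => hk ▸ pow_conj_mem hn k hs
  have h15' : h' ^ 15 = 1 := by rw [hk, ← pow_mul, mul_comm, pow_mul, h15, one_pow]
  have hfree' : ∀ t ∈ Z, t ≠ 1 → h' * t ≠ t * h' := by
    intro t ht ht1 hc
    rcases hh' with rfl | rfl
    · exact hfreeZ t ht ht1 hc
    · exact hfreeZ t ht ht1 ((inv_inv h) ▸ (show Commute h⁻¹ t from hc).inv_left)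
  -- kill the central error term
  rw [← Nat.mul_comm 4 k, hit, hit, ← QuotientGroup.mk_mul, QuotientGroup.eq, hN, mem_subgroupOf] at hrel
  have hrel' : (h' ^ 4 * x * (h' ^ 4)⁻¹)⁻¹ * (x * (h' * x * h'⁻¹)) ∈ Z := by
    rw [hk, ← pow_mul, Nat.mul_comm k 4]; exact hrel
  generalize hd : (h' ^ 4 * x * (h' ^ 4)⁻¹)⁻¹ * (x * (h' * x * h'⁻¹)) = d at hrel'
  refine ⟨x * d, h', hh', hS, mul_mem hxS (hS.le hrel'), fun hc => hxZ ?_, hn', h15', hfree', ?_, ?_⟩
  · simpa using mul_mem hc (inv_mem hrel')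
  · intro m hm hm0 hc
    refine hfree (k * m % 15) (Nat.mod_lt _ (by norm_num)) (hk15 m hm hm0) x hxS hxZ ?_
    have hp : h' ^ m = h ^ (k * m % 15) := by
      rw [hk, ← pow_mul]
      conv_lhs => rw [← Nat.mod_add_div (k * m) 15, pow_add, pow_mul, h15, one_pow, mul_one]
    have hdz := pow_conj_mem_Z hS hn' m hrel'
    have hxm : h' ^ m * x * (h' ^ m)⁻¹ ∈ S := pow_conj_mem hn' m hxS
    have hz : x⁻¹ * (h' ^ m * x * (h' ^ m)⁻¹) = ((x * d)⁻¹ * (h' ^ m * (x * d) * (h' ^ m)⁻¹)) *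
        (d * (h' ^ m * d * (h' ^ m)⁻¹)⁻¹) := by
      have e1 : h' ^ m * (x * d) * (h' ^ m)⁻¹ =
          h' ^ m * x * (h' ^ m)⁻¹ * (h' ^ m * d * (h' ^ m)⁻¹) := by group
      rw [e1]
      set y := h' ^ m * x * (h' ^ m)⁻¹
      set d' := h' ^ m * d * (h' ^ m)⁻¹
      have c1 : d * (x⁻¹ * y * d') = (x⁻¹ * y * d') * d :=
        hS.cen d hrel' _ (mul_mem (mul_mem (inv_mem hxS) hxm) (hS.le hdz))
      calc x⁻¹ * y = d⁻¹ * ((x⁻¹ * y * d') * d) * d'⁻¹ := by rw [← c1]; group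
        _ = _ := by group
    rw [← hp, hz]
    exact mul_mem hc (mul_mem hrel' (inv_mem hdz))
  · have hD := fun t (ht : t ∈ Z) (ht1 : t ≠ 1) => cycle_Z (t := t) hS hn' h15' hfree' ht ht1
    by_cases hd1 : d = 1
    · subst hd1
      simp only [mul_one]
      exact inv_inj.1 (mul_eq_one_iff_eq_inv.1 hd)
    have hd' := conj_mem_Z hS hn' hrel'
    have h4d : h' ^ 4 * d * (h' ^ 4)⁻¹ = h' * d * h'⁻¹ := by
      have h3 : h' ^ 3 * d * (h' ^ 3)⁻¹ = d := by
        rw [show h' ^ 3 = h' * (h' * h') by rw [pow_succ', pow_two],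
          show h' * (h' * h') * d * (h' * (h' * h'))⁻¹ = h' * (h' * (h' * d * h'⁻¹) * h'⁻¹) * h'⁻¹ by group,
          hD d hrel' hd1, show h' * (d * (h' * d * h'⁻¹)) * h'⁻¹ =
            h' * d * h'⁻¹ * (h' * (h' * d * h'⁻¹) * h'⁻¹) by group, hD d hrel' hd1]
        rw [← mul_assoc, hS.cen _ hd' d (hS.le hrel'), mul_assoc, hS.mem_sq hd', mul_one]
      rw [pow_succ' h' 3, show h' * h' ^ 3 * d * (h' * h' ^ 3)⁻¹ = h' * (h' ^ 3 * d * (h' ^ 3)⁻¹) * h'⁻¹ by group, h3]
    have hy : h' * x * h'⁻¹ ∈ S := hn' x hxS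
    have eA : h' ^ 4 * x * (h' ^ 4)⁻¹ * d = x * (h' * x * h'⁻¹) := by rw [← hd]; group
    calc h' ^ 4 * (x * d) * (h' ^ 4)⁻¹
        = h' ^ 4 * x * (h' ^ 4)⁻¹ * (h' ^ 4 * d * (h' ^ 4)⁻¹) := by group
      _ = x * (h' * x * h'⁻¹) * d⁻¹ * (h' * d * h'⁻¹) := by rw [h4d, ← eA]; group
      _ = _ := by
        rw [hS.inv_Z hrel', show h' * (x * d) * h'⁻¹ = h' * x * h'⁻¹ * (h' * d * h'⁻¹) by group,
          mul_assoc x (h' * x * h'⁻¹) d, ← hS.cen d hrel' _ hy]
        group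

/-! ### The coordinates -/

/-- The `i`-th conjugate of `x`. -/
def el (h x : G) (i : ℕ) : G := h ^ i * x * (h ^ i)⁻¹

/-- The four elements of the centre. -/
def zel (h x : G) : ℕ → G
  | 0 => 1
  | 1 => x * x
  | 2 => h * (x * x) * h⁻¹
  | _ => x * x * (h * (x * x) * h⁻¹)

/-- A power with exponent a bit. -/
def gp (b : Bool) (y : G) : G := if b then y else 1

/-- The ordered product for the low four bits. -/
def low (h x : G) (b : ℕ) : G :=
  gp (b.testBit 0) (el h x 0) * gp (b.testBit 1) (el h x 1) * gp (b.testBit 2) (el h x 2) *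
    gp (b.testBit 3) (el h x 3)

/-- The coordinate map. -/
def phi (h x : G) (b : ℕ) : G := low h x (b &&& 15) * zel h x (b >>> 4)

theorem el_succ (h x : G) (i : ℕ) : h * el h x i * h⁻¹ = el h x (i + 1) := by
  rw [el, el, pow_succ']; group

namespace Gens

variable {x h : G} (g : Gens S Z x h)
include g

theorem el_mem (i : ℕ) : el h x i ∈ S := pow_conj_mem g.norm i g.xS

theorem sq_ne : x * x ≠ 1 := fun e => g.xZ ((g.shape.invol x g.xS).1 e)

theorem zel_mem (i : ℕ) : zel h x i ∈ Z := by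
  have h1 := g.shape.sq_mem x g.xS
  have h2 := conj_mem_Z g.shape g.norm h1
  rcases i with _ | _ | _ | i
  exacts [one_mem _, h1, h2, mul_mem h1 h2]

theorem zel_succ : h * zel h x 1 * h⁻¹ = zel h x 2 ∧ h * zel h x 2 * h⁻¹ = zel h x 3 ∧
    h * zel h x 3 * h⁻¹ = zel h x 1 := by
  have hz := g.shape.sq_mem x g.xS
  have hc := cycle_Z g.shape g.norm g.h15 g.freeZ hz g.sq_ne
  refine ⟨rfl, hc, ?_⟩
  show h * (x * x * (h * (x * x) * h⁻¹)) * h⁻¹ = x * x
  rw [show h * (x * x * (h * (x * x) * h⁻¹)) * h⁻¹ =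
    h * (x * x) * h⁻¹ * (h * (h * (x * x) * h⁻¹) * h⁻¹) by group, hc, ← mul_assoc,
    g.shape.cen _ (conj_mem_Z g.shape g.norm hz) (x * x) (g.shape.le hz), mul_assoc,
    g.shape.mem_sq (conj_mem_Z g.shape g.norm hz), mul_one]

theorem zel_xor : ∀ i < 4, ∀ j < 4, zel h x i * zel h x j = zel h x (i ^^^ j) := by
  intro i hi j hj
  have h1 := g.shape.mem_sq (g.zel_mem 1)
  have h2 := g.shape.mem_sq (g.zel_mem 2)
  have hc : zel h x 2 * zel h x 1 = zel h x 1 * zel h x 2 :=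
    g.shape.cen _ (g.zel_mem 2) _ (g.shape.le (g.zel_mem 1))
  have e3 : zel h x 3 = zel h x 1 * zel h x 2 := rfl
  have e0 : zel h x 0 = 1 := rfl
  interval_cases i <;> interval_cases j <;>
    simp only [e0, e3, one_mul, mul_one, Nat.reduceXor]
  all_goals first
    | rfl
    | exact h1
    | exact h2
    | exact hc
    | rw [← mul_assoc, h1, one_mul]
    | rw [mul_assoc, h2, mul_one]
    | rw [← mul_assoc, hc, mul_assoc, h2, mul_one]
    | rw [mul_assoc, hc, ← mul_assoc, h1, one_mul]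
    | rw [mul_assoc, ← mul_assoc (zel h x 2), hc, mul_assoc (zel h x 1), h2, mul_one, h1]

theorem sq_el : el h x 0 * el h x 0 = zel h x 1 ∧ el h x 1 * el h x 1 = zel h x 2 ∧
    el h x 2 * el h x 2 = zel h x 3 ∧ el h x 3 * el h x 3 = zel h x 1 := by
  have h0 : el h x 0 * el h x 0 = zel h x 1 := by simp [el, zel]
  obtain ⟨z1, z2, z3⟩ := g.zel_succ
  have step : ∀ i k, el h x i * el h x i = zel h x k →
      el h x (i + 1) * el h x (i + 1) = h * zel h x k * h⁻¹ := fun i k e => by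
    rw [← el_succ, ← e]; group
  have h1 := (step 0 1 h0).trans z1
  have h2 := (step 1 2 h1).trans z2
  exact ⟨h0, h1, h2, (step 2 3 h2).trans z3⟩

theorem el_four : el h x 4 = el h x 0 * el h x 1 := by simp [el, g.rel]

/-- The commutation rule from three squares. -/
theorem swap_of_sq {a b za zb zab : G} (ha : a ∈ S) (hb : b ∈ S) (h1 : a * a = za) (h2 : b * b = zb)
    (h3 : a * b * (a * b) = zab) : b * a = a * b * (za * zb * zab) := by
  have hzb : zb ∈ Z := h2 ▸ g.shape.sq_mem b hb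
  have hza : za ∈ Z := h1 ▸ g.shape.sq_mem a ha
  have hzab : zab ∈ Z := h3 ▸ g.shape.sq_mem _ (mul_mem ha hb)
  have ea : a⁻¹ = a * za := inv_eq_of_mul_eq_one_right (by rw [← mul_assoc, h1, g.shape.mem_sq hza])
  have eb : b⁻¹ = b * zb := inv_eq_of_mul_eq_one_right (by rw [← mul_assoc, h2, g.shape.mem_sq hzb])
  calc b * a = a⁻¹ * (a * b * (a * b)) * b⁻¹ := by group
    _ = a * za * zab * (b * zb) := by rw [h3, ea, eb]
    _ = a * ((za * zab) * b) * zb := by group
    _ = a * (b * (za * zab)) * zb := by rw [g.shape.cen _ (mul_mem hza hzab) b hb]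
    _ = a * b * (za * (zab * zb)) := by group
    _ = _ := by rw [g.shape.cen _ hzab zb (g.shape.le hzb)]; group

theorem swap_all :
    el h x 1 * el h x 0 = el h x 0 * el h x 1 * zel h x 1 ∧
    el h x 2 * el h x 1 = el h x 1 * el h x 2 * zel h x 2 ∧
    el h x 3 * el h x 2 = el h x 2 * el h x 3 * zel h x 3 ∧
    el h x 2 * el h x 0 = el h x 0 * el h x 2 * zel h x 1 ∧
    el h x 3 * el h x 1 = el h x 1 * el h x 3 * zel h x 2 ∧
    el h x 3 * el h x 0 = el h x 0 * el h x 3 * zel h x 3 := by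
  obtain ⟨s0, s1, s2, s3⟩ := g.sq_el
  obtain ⟨z1, z2, z3⟩ := g.zel_succ
  have hx' := g.zel_xor
  have cs : ∀ i (a : G), a ∈ S → zel h x i * a = a * zel h x i := fun i a ha =>
    g.shape.cen _ (g.zel_mem i) a ha
  have up : ∀ i j k, el h x j * el h x i = el h x i * el h x j * zel h x k →
      el h x (j + 1) * el h x (i + 1) = el h x (i + 1) * el h x (j + 1) * (h * zel h x k * h⁻¹) := by
    intro i j k e
    rw [← el_succ, ← el_succ, show h * el h x j * h⁻¹ * (h * el h x i * h⁻¹) =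
      h * (el h x j * el h x i) * h⁻¹ by group, e]
    group
  have s4 : el h x 4 * el h x 4 = zel h x 2 := by
    rw [← el_succ, show h * el h x 3 * h⁻¹ * (h * el h x 3 * h⁻¹) = h * (el h x 3 * el h x 3) * h⁻¹ by group,
      s3, z1]
  have q01 : el h x 0 * el h x 1 * (el h x 0 * el h x 1) = zel h x 2 := by rw [← g.el_four, s4]
  have k01 : el h x 1 * el h x 0 = el h x 0 * el h x 1 * zel h x 1 := by
    rw [g.swap_of_sq (g.el_mem 0) (g.el_mem 1) s0 s1 q01, hx' 1 (by norm_num) 2 (by norm_num),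
      hx' (1 ^^^ 2) (by decide) 2 (by norm_num)]
    rfl
  have k12 := (up 0 1 1 k01).trans (by rw [z1])
  have k23 := (up 1 2 2 k12).trans (by rw [z2])
  -- the product of the first and the third element
  have h8 : el h x 8 * el h x 8 = zel h x 3 := by
    have st : ∀ i k, el h x i * el h x i = zel h x k →
        el h x (i + 1) * el h x (i + 1) = h * zel h x k * h⁻¹ := fun i k e => by
      rw [← el_succ, ← e]; group
    have a5 := (st 4 2 s4).trans z2
    have a6 := (st 5 3 a5).trans z3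
    have a7 := (st 6 1 a6).trans z1
    exact (st 7 2 a7).trans z2
  have e45 : el h x 8 = el h x 4 * el h x 5 := by
    have e4 := g.el_four
    simp only [el] at e4 ⊢
    rw [show h ^ 8 * x * (h ^ 8)⁻¹ = h ^ 4 * (h ^ 4 * x * (h ^ 4)⁻¹) * (h ^ 4)⁻¹ by group]
    conv_lhs => rw [e4]
    group
  have e02 : el h x 8 = el h x 0 * el h x 2 * zel h x 2 := by
    rw [e45, ← el_succ h x 4, g.el_four,
      show h * (el h x 0 * el h x 1) * h⁻¹ = h * el h x 0 * h⁻¹ * (h * el h x 1 * h⁻¹) by group,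
      el_succ, el_succ, show el h x 0 * el h x 1 * (el h x 1 * el h x 2) =
        el h x 0 * (el h x 1 * el h x 1) * el h x 2 by group, s1, mul_assoc (el h x 0),
      cs 2 _ (g.el_mem 2), ← mul_assoc]
  have q02 : el h x 0 * el h x 2 * (el h x 0 * el h x 2) = zel h x 3 := by
    rw [← h8, e02, g.shape.sq_mul_Z (mul_mem (g.el_mem 0) (g.el_mem 2)) (g.zel_mem 2)]
  have k02 : el h x 2 * el h x 0 = el h x 0 * el h x 2 * zel h x 1 := by
    rw [g.swap_of_sq (g.el_mem 0) (g.el_mem 2) s0 s2 q02, hx' 1 (by norm_num) 3 (by norm_num),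
      hx' (1 ^^^ 3) (by decide) 3 (by norm_num)]
    rfl
  have k13 := (up 0 2 1 k02).trans (by rw [z1])
  -- the product of the first and the fourth element
  have e03 : h * (el h x 0 * el h x 3) * h⁻¹ = el h x 0 * zel h x 3 := by
    rw [show h * (el h x 0 * el h x 3) * h⁻¹ = h * el h x 0 * h⁻¹ * (h * el h x 3 * h⁻¹) by group,
      el_succ, el_succ, g.el_four, ← mul_assoc, k01, mul_assoc, cs 1 _ (g.el_mem 1), ← mul_assoc,
      mul_assoc (el h x 0) (el h x 1), s1, mul_assoc, hx' 2 (by norm_num) 1 (by norm_num)]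
    rfl
  have q03 : el h x 0 * el h x 3 * (el h x 0 * el h x 3) = zel h x 3 := by
    have e1 : h * (el h x 0 * el h x 3 * (el h x 0 * el h x 3)) * h⁻¹ = zel h x 1 := by
      rw [show h * (el h x 0 * el h x 3 * (el h x 0 * el h x 3)) * h⁻¹ =
        h * (el h x 0 * el h x 3) * h⁻¹ * (h * (el h x 0 * el h x 3) * h⁻¹) by group, e03,
        g.shape.sq_mul_Z (g.el_mem 0) (g.zel_mem 3), s0]
    rw [← z3] at e1
    exact mul_left_cancel (mul_right_cancel e1)
  have k03 : el h x 3 * el h x 0 = el h x 0 * el h x 3 * zel h x 3 := by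
    rw [g.swap_of_sq (g.el_mem 0) (g.el_mem 3) s0 s3 q03, hx' 1 (by norm_num) 1 (by norm_num),
      hx' (1 ^^^ 1) (by decide) 3 (by norm_num)]
    rfl
  exact ⟨k01, k12, k23, k02, k13, k03⟩

end Gens

end CfsgLib.Invol.UThreeFour.Recog
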