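import Cfsg.Agent.Lib.Invol.UThreeFour.Recog.Phi

/-!
A group of order 62400 with the local structure of PSU(3,4) acts doubly transitively on the 65
cosets of the normalizer of a Sylow 2-subgroup; the two-point stabilizer is cyclic of order fifteen
and some involution interchanges the two points.
-/

set_option autoImplicit false
set_option linter.unusedSectionVars false
set_option linter.style.haveILetI false

namespace CfsgLib.Invol.UThreeFour.Recog

open Subgroup

universe u

/-- The hypotheses of the recognition. -/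
structure Hyp (G : Type u) [Group G] [Finite G] (S : Sylow 2 G) (Z : Subgroup G) : Prop where
  card : Nat.card G = 62400
  oddCore_eq : Cfsg.oddCore G = ⊥
  shape : UShape (S : Subgroup G) Z
  conj : ∀ s t : G, orderOf s = 2 → orderOf t = 2 → IsConj s t
  cent : ∀ z ∈ Z, z ≠ 1 → centralizer ({z} : Set G) ≤ normalizer ((S : Subgroup G) : Set G) ∧
    Nat.card (centralizer ({z} : Set G)) = 320

variable {G : Type u} [Group G] [Finite G] {S : Sylow 2 G} {Z : Subgroup G}

namespace Hyp

variable (H₀ : Hyp G S Z)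
include H₀

theorem orderOf_Z {z : G} (hz : z ∈ Z) (hz1 : z ≠ 1) : orderOf z = 2 :=
  orderOf_eq_prime (by rw [pow_two]; exact H₀.shape.mem_sq hz) hz1

theorem exists_norm_conj {z t : G} (hz : z ∈ Z) (hz1 : z ≠ 1) (ht : t ∈ Z) (ht1 : t ≠ 1) :
    ∃ n ∈ normalizer ((S : Subgroup G) : Set G), n * z * n⁻¹ = t := by
  obtain ⟨g, hg⟩ := isConj_iff.1 (H₀.conj z t (H₀.orderOf_Z hz hz1) (H₀.orderOf_Z ht ht1))
  obtain ⟨n, hn, he⟩ := H₀.shape.conj_normalizer hz (g := g) (by rw [hg]; exact ht)
  exact ⟨n, hn, he.trans hg⟩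

/-- The Sylow 2-subgroup meets its other conjugates trivially. -/
theorem ti {g s : G} (hs : s ∈ (S : Subgroup G)) (hs1 : s ≠ 1) (hgs : g * s * g⁻¹ ∈ (S : Subgroup G)) :
    g ∈ normalizer ((S : Subgroup G) : Set G) := by
  obtain ⟨z, hz, hz1, hgz⟩ : ∃ z ∈ Z, z ≠ 1 ∧ g * z * g⁻¹ ∈ Z := by
    by_cases h : s * s = 1
    · refine ⟨s, (H₀.shape.invol s hs).1 h, hs1, (H₀.shape.invol _ hgs).1 ?_⟩
      rw [show g * s * g⁻¹ * (g * s * g⁻¹) = g * (s * s) * g⁻¹ by group, h]; group
    · refine ⟨s * s, H₀.shape.sq_mem s hs, h, ?_⟩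
      have := H₀.shape.sq_mem _ hgs
      rwa [show g * s * g⁻¹ * (g * s * g⁻¹) = g * (s * s) * g⁻¹ by group] at this
  obtain ⟨n, hn, he⟩ := H₀.shape.conj_normalizer hz hgz
  have hc : n⁻¹ * g ∈ centralizer ({z} : Set G) := by
    rw [mem_centralizer_singleton_iff]
    calc n⁻¹ * g * z = n⁻¹ * (g * z * g⁻¹) * g := by group
      _ = n⁻¹ * (n * z * n⁻¹) * g := by rw [he]
      _ = z * (n⁻¹ * g) := by group
  have := mul_mem hn ((H₀.cent z hz hz1).1 hc)
  rwa [mul_inv_cancel_left] at this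

/-- A 2-element of the normalizer lies in the Sylow subgroup. -/
theorem mem_of_two {n : G} (hn : n ∈ normalizer ((S : Subgroup G) : Set G)) {k : ℕ}
    (h2 : n ^ (2 ^ k) = 1) : n ∈ (S : Subgroup G) := by
  haveI : Fact (Nat.Prime 2) := ⟨Nat.prime_two⟩
  have hP : IsPGroup 2 (Subgroup.zpowers n) := by
    intro y
    obtain ⟨y, j, rfl⟩ := y
    refine ⟨k, Subtype.ext ?_⟩
    simp only [SubgroupClass.coe_pow, OneMemClass.coe_one]
    rw [← zpow_natCast, zpow_comm, zpow_natCast, h2, one_zpow]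
  have hsup : IsPGroup 2 (↑(Subgroup.zpowers n ⊔ (S : Subgroup G)) : Subgroup G) := by
    refine IsPGroup.to_sup_of_normal_right' hP S.2 ?_
    rw [Subgroup.zpowers_le]
    exact hn
  have := S.3 hsup le_sup_right
  rw [← this]
  exact Subgroup.mem_sup_left (Subgroup.mem_zpowers n)

theorem card_normalizer : Nat.card (normalizer ((S : Subgroup G) : Set G)) = 960 := by
  classical
  obtain ⟨z, hz, hz1⟩ : ∃ z ∈ Z, z ≠ 1 := by
    by_contra hc
    push Not at hc
    have := H₀.shape.cardZ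
    rw [(Subgroup.eq_bot_iff_forall Z).2 hc, Subgroup.card_bot] at this
    omega
  set N := normalizer ((S : Subgroup G) : Set G) with hN
  set C := (centralizer ({z} : Set G)).subgroupOf N with hC
  have hcC : Nat.card C = 320 := by
    rw [hC, Nat.card_congr (Subgroup.subgroupOfEquivOfLe (H₀.cent z hz hz1).1).toEquiv,
      (H₀.cent z hz hz1).2]
  have hrel : ∀ a b : N, (a : G) * z * (a : G)⁻¹ = (b : G) * z * (b : G)⁻¹ ↔ a⁻¹ * b ∈ C := by
    intro a b
    rw [hC, mem_subgroupOf, mem_centralizer_singleton_iff, Subgroup.coe_mul, InvMemClass.coe_inv]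
    constructor
    · intro e
      calc (a : G)⁻¹ * b * z = (a : G)⁻¹ * ((b : G) * z * (b : G)⁻¹) * b := by group
        _ = _ := by rw [← e]; group
    · intro e
      calc (a : G) * z * (a : G)⁻¹ = (a : G) * (z * ((a : G)⁻¹ * b)) * (b : G)⁻¹ := by group
        _ = _ := by rw [← e]; group
  let f : N ⧸ C → {t : Z // t ≠ 1} := fun q => Quotient.liftOn' q
    (fun n => ⟨⟨(n : G) * z * (n : G)⁻¹, H₀.shape.normalizer_Z n.2 hz⟩, fun e =>
      hz1 (conj_eq_one_iff.1 (congrArg Subtype.val e))⟩)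
    (fun a b e => Subtype.ext (Subtype.ext ((hrel a b).2 (QuotientGroup.leftRel_apply.1 e))))
  have hf : Function.Bijective f := by
    constructor
    · intro p q
      induction p using QuotientGroup.induction_on with | _ a => ?_
      induction q using QuotientGroup.induction_on with | _ b => ?_
      intro e
      exact QuotientGroup.eq.2 ((hrel a b).1 (congrArg (fun t => ((t.1 : Z) : G)) e))
    · rintro ⟨⟨t, ht⟩, ht1⟩
      obtain ⟨n, hn, he⟩ := H₀.exists_norm_conj hz hz1 ht (fun e => ht1 (Subtype.ext e))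
      exact ⟨((⟨n, hn⟩ : N) : N ⧸ C), Subtype.ext (Subtype.ext he)⟩
  have h3 : Nat.card {t : Z // t ≠ 1} = 3 := by
    haveI := Fintype.ofFinite Z
    rw [Nat.card_eq_fintype_card, Fintype.card_subtype_compl, ← Nat.card_eq_fintype_card, H₀.shape.cardZ]
    simp
  have := Subgroup.card_eq_card_quotient_mul_card_subgroup C
  rw [Nat.card_eq_of_bijective f hf, h3, hcC] at this
  omega

theorem card_cosets : Nat.card (G ⧸ normalizer ((S : Subgroup G) : Set G)) = 65 := by
  have := Subgroup.card_eq_card_quotient_mul_card_subgroup (normalizer ((S : Subgroup G) : Set G))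
  rw [H₀.card, H₀.card_normalizer] at this
  omega

end Hyp

local notation "X" => G ⧸ normalizer ((S : Subgroup G) : Set G)

/-- The base point. -/
abbrev base (S : Sylow 2 G) : G ⧸ normalizer ((S : Subgroup G) : Set G) :=
  ((1 : G) : G ⧸ normalizer ((S : Subgroup G) : Set G))

omit [Finite G] in
theorem smul_base_iff {g : G} : g • base S = base S ↔ g ∈ normalizer ((S : Subgroup G) : Set G) := by
  show ((g * 1 : G) : X) = ((1 : G) : X) ↔ _
  rw [mul_one, QuotientGroup.eq, mul_one, inv_mem_iff]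

namespace Hyp

variable (H₀ : Hyp G S Z)
include H₀

theorem semireg {p : X} {s : G} (hs : s ∈ (S : Subgroup G)) (hs1 : s ≠ 1) (hfix : s • p = p) :
    p = base S := by
  haveI : Fact (Nat.Prime 2) := ⟨Nat.prime_two⟩
  induction p using QuotientGroup.induction_on with | _ g => ?_
  change ((s * g : G) : X) = (g : X) at hfix
  rw [QuotientGroup.eq] at hfix
  have h1 : g⁻¹ * s * g ∈ normalizer ((S : Subgroup G) : Set G) := by
    have := inv_mem hfix
    rwa [mul_inv_rev, inv_inv, ← mul_assoc] at this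
  obtain ⟨k, hk⟩ := S.2 ⟨s, hs⟩
  have h2 : g⁻¹ * s * g ∈ (S : Subgroup G) := H₀.mem_of_two h1 (k := k) (by
    have hk' : s ^ 2 ^ k = 1 := congrArg Subtype.val hk
    have := conj_pow (i := 2 ^ k) (a := g⁻¹) (b := s)
    rw [inv_inv, hk'] at this
    rw [this]; group)
  have := H₀.ti (g := g⁻¹) hs hs1 (by rwa [inv_inv])
  rw [inv_mem_iff] at this
  exact (QuotientGroup.eq.2 (by simpa using this)).symm

/-- The Sylow subgroup is transitive on the other 64 points. -/
theorem regular {p q : X} (hp : p ≠ base S) (hq : q ≠ base S) :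
    ∃ s ∈ (S : Subgroup G), s • p = q := by
  classical
  haveI := Fintype.ofFinite X
  let f : ↥(S : Subgroup G) → {y : X // y ≠ base S} := fun s => ⟨(s : G) • p, fun e => hp (by
    have hs : (s : G)⁻¹ • base S = base S :=
      smul_base_iff.2 (inv_mem (Subgroup.le_normalizer s.2))
    rw [← hs, ← e, inv_smul_smul])⟩
  have hf : Function.Injective f := by
    intro a b e
    have e' : (a : G) • p = (b : G) • p := congrArg Subtype.val e
    by_contra hab
    refine hp (H₀.semireg (mul_mem (inv_mem b.2) a.2) (fun h => hab (Subtype.ext ?_)) ?_)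
    · exact (inv_mul_eq_one.1 h).symm
    · rw [mul_smul, e', inv_smul_smul]
  have hb := (Nat.bijective_iff_injective_and_card f).2 ⟨hf, by
    rw [H₀.shape.cardS, Nat.card_eq_fintype_card, Fintype.card_subtype_compl,
      ← Nat.card_eq_fintype_card, H₀.card_cosets]
    simp⟩
  obtain ⟨s, hs⟩ := hb.2 ⟨q, hq⟩
  exact ⟨s, s.2, congrArg Subtype.val hs⟩

/-- Orders of the point stabilizers in overgroups of `S` inside the normalizer. -/
theorem card_stab {p : X} (hp : p ≠ base S) (M : Subgroup G) (hSM : (S : Subgroup G) ≤ M)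
    (hM : M ≤ normalizer ((S : Subgroup G) : Set G)) :
    Nat.card M = 64 * Nat.card ↥(M ⊓ MulAction.stabilizer G p) := by
  let f : ↥(S : Subgroup G) × ↥(M ⊓ MulAction.stabilizer G p) → M := fun x =>
    ⟨(x.1 : G) * (x.2 : G), mul_mem (hSM x.1.2) x.2.2.1⟩
  have hf : Function.Bijective f := by
    constructor
    · rintro ⟨a, b⟩ ⟨c, d⟩ e
      have e' : (a : G) * b = (c : G) * d := congrArg Subtype.val e
      have hac : (a : G) = c := by
        by_contra hne
        refine hp (H₀.semireg (mul_mem (inv_mem c.2) a.2) (fun h => hne (inv_mul_eq_one.1 h).symm) ?_)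
        rw [show (c : G)⁻¹ * a = (d : G) * (b : G)⁻¹ by
          rw [eq_mul_inv_iff_mul_eq, mul_assoc, e', inv_mul_cancel_left], mul_smul,
          show (b : G)⁻¹ • p = p from (MulAction.stabilizer G p).inv_mem b.2.2]
        exact d.2.2
      have hbd : (b : G) = d := by rw [hac] at e'; exact mul_left_cancel e'
      exact Prod.ext (Subtype.ext hac) (Subtype.ext hbd)
    · intro m
      have hmp : (m : G) • p ≠ base S := fun e => hp (by
        rw [← inv_smul_smul (m : G) p, e]
        exact smul_base_iff.2 (inv_mem (hM m.2)))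
      obtain ⟨s, hs, he⟩ := H₀.regular hp hmp
      refine ⟨(⟨s, hs⟩, ⟨s⁻¹ * m, M.mul_mem (M.inv_mem (hSM hs)) m.2, ?_⟩),
        Subtype.ext (mul_inv_cancel_left s _)⟩
      show (s⁻¹ * (m : G)) • p = p
      rw [mul_smul, ← he, inv_smul_smul]
  rw [← Nat.card_eq_of_bijective f hf, Nat.card_prod, H₀.shape.cardS]

theorem eq_one_of_fixes {n : G} (hbase : n • base S = base S) {p : X}
    (hp : p ≠ base S) (hfix : n • p = p) (hc : ∀ s ∈ (S : Subgroup G), n * s = s * n) : n = 1 := by
  have hall : ∀ q : X, n • q = q := by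
    intro q
    by_cases hq : q = base S
    · rw [hq, hbase]
    obtain ⟨s, hs, rfl⟩ := H₀.regular hp hq
    rw [← mul_smul, hc s hs, mul_smul, hfix]
  set K : Subgroup G := (normalizer ((S : Subgroup G) : Set G)).normalCore with hK
  have hnK : n ∈ K := by
    rw [hK, Subgroup.normalCore_eq_ker, MonoidHom.mem_ker]
    ext q
    exact hall q
  -- the kernel fixes every point, so it has odd order
  have hKodd : Odd (Nat.card K) := by
    rw [← Nat.not_even_iff_odd, even_iff_two_dvd]
    intro h2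
    haveI : Fact (Nat.Prime 2) := ⟨Nat.prime_two⟩
    obtain ⟨y, hy⟩ := exists_prime_orderOf_dvd_card' 2 h2
    have hy2 : orderOf (y : G) = 2 := by rw [orderOf_coe, hy]
    have hyS : (y : G) ∈ (S : Subgroup G) := H₀.mem_of_two (Subgroup.normalCore_le _ y.2) (k := 1)
      (by rw [pow_one, ← hy2]; exact pow_orderOf_eq_one _)
    have hyall : (y : G) • p = p := by
      have h' : (y : G) ∈ (normalizer ((S : Subgroup G) : Set G)).normalCore := y.2
      rw [Subgroup.normalCore_eq_ker, MonoidHom.mem_ker] at h'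
      exact Equiv.ext_iff.1 h' p
    exact hp (H₀.semireg hyS (fun e => by rw [e, orderOf_one] at hy2; omega) hyall)
  have hle : K ≤ Cfsg.oddCore G := by
    exact le_sSup (show K.Normal ∧ (Nat.card K).Coprime 2 from
      ⟨inferInstance, Nat.coprime_two_right.2 hKodd⟩)
  rw [H₀.oddCore_eq, le_bot_iff] at hle
  rw [hle, mem_bot] at hnK
  exact hnK

/-- The two-point stabilizer, its generator, and an involution interchanging the points. -/
theorem exists_frame : ∃ (p : X) (x h w : G), p ≠ base S ∧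
    h ∈ normalizer ((S : Subgroup G) : Set G) ∧ h • p = p ∧ Gens (S : Subgroup G) Z x h ∧
    (∀ n ∈ normalizer ((S : Subgroup G) : Set G), n • p = p → ∃ m < 15, n = h ^ m) ∧
    w * w = 1 ∧ w • base S = p ∧ w • p = base S := by
  classical
  set N := normalizer ((S : Subgroup G) : Set G) with hN
  obtain ⟨p, hp⟩ : ∃ p : G ⧸ N, p ≠ base S := by
    by_contra hc
    push Not at hc
    haveI : Subsingleton (G ⧸ N) := ⟨fun a b => (hc a).trans (hc b).symm⟩
    have := Nat.card_eq_one_iff_unique.2 ⟨‹Subsingleton (G ⧸ N)›, ⟨base S⟩⟩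
    rw [H₀.card_cosets] at this
    omega
  obtain ⟨z, hz, hz1⟩ : ∃ z ∈ Z, z ≠ 1 := by
    by_contra hc
    push Not at hc
    have := H₀.shape.cardZ
    rw [(Subgroup.eq_bot_iff_forall Z).2 hc, Subgroup.card_bot] at this
    omega
  set Hs := N ⊓ MulAction.stabilizer G p with hHs
  have hH : Nat.card Hs = 15 := by
    have := H₀.card_stab hp N Subgroup.le_normalizer le_rfl
    rw [H₀.card_normalizer, ← hHs] at this
    omega
  set K := centralizer ({z} : Set G) ⊓ MulAction.stabilizer G p with hKdef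
  have hSC : (S : Subgroup G) ≤ centralizer ({z} : Set G) := fun s hs =>
    mem_centralizer_singleton_iff.2 (H₀.shape.cen z hz s hs).symm
  have hK : Nat.card K = 5 := by
    have := H₀.card_stab hp _ hSC (H₀.cent z hz hz1).1
    rw [(H₀.cent z hz hz1).2, ← hKdef] at this
    omega
  have hoddH : ∀ n ∈ Hs, Odd (orderOf n) := fun n hn => by
    have hd : orderOf (⟨n, hn⟩ : Hs) ∣ Nat.card Hs := orderOf_dvd_natCard _
    rw [Subgroup.orderOf_mk, hH] at hd
    exact Odd.of_dvd_nat (by decide) hd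
  have hnorm : ∀ n ∈ N, ∀ s ∈ (S : Subgroup G), n * s * n⁻¹ ∈ (S : Subgroup G) := fun n hn s hs =>
    (mem_normalizer_iff.1 hn s).1 hs
  -- generators of orders three and five
  haveI : Fact (Nat.Prime 3) := ⟨Nat.prime_three⟩
  haveI : Fact (Nat.Prime 5) := ⟨Nat.prime_five⟩
  obtain ⟨⟨b, hbK⟩, hb⟩ := exists_prime_orderOf_dvd_card' (G := K) 5 (by rw [hK])
  obtain ⟨⟨a, haH⟩, ha⟩ := exists_prime_orderOf_dvd_card' (G := Hs) 3 (by rw [hH]; norm_num)
  rw [Subgroup.orderOf_mk] at ha hb
  have hbH : b ∈ Hs := ⟨(H₀.cent z hz hz1).1 hbK.1, hbK.2⟩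
  have hKeq : K = Subgroup.zpowers b := by
    refine (Subgroup.eq_of_le_of_card_ge (Subgroup.zpowers_le.2 hbK) ?_).symm
    rw [Nat.card_zpowers, hb, hK]
  have hKnorm : a * b * a⁻¹ ∈ K := by
    refine ⟨mem_centralizer_singleton_iff.2 ?_, ?_⟩
    · have hzc := H₀.shape.normalizer_Z (inv_mem haH.1) hz
      have hbz : ∀ t ∈ Z, b * t = t * b := H₀.shape.normalizer_fix_Z hbH.1 hz hz1
        (mem_centralizer_singleton_iff.1 hbK.1)
      have := hbz _ hzc
      rw [inv_inv] at this
      calc a * b * a⁻¹ * z = a * (b * (a⁻¹ * z * a)) * a⁻¹ := by group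
        _ = a * (a⁻¹ * z * a * b) * a⁻¹ := by rw [this]
        _ = z * (a * b * a⁻¹) := by group
    · exact Subgroup.mul_mem _ (Subgroup.mul_mem _ haH.2 hbH.2) (Subgroup.inv_mem _ haH.2)
  obtain ⟨i, hi, hab⟩ : ∃ i < 5, a * b * a⁻¹ = b ^ i := by
    rw [hKeq] at hKnorm
    obtain ⟨i, hi, he⟩ := (mem_zpowers_iff_mem_range_orderOf.1 hKnorm) |> Finset.mem_image.1
    exact ⟨i, by rw [← hb]; exact Finset.mem_range.1 hi, he.symm⟩
  have hcomm : Commute a b := by
    have ha3 : a ^ 3 = 1 := by rw [← ha]; exact pow_orderOf_eq_one a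
    have h3 : b ^ (i * i * i) = b := by
      have st : ∀ k, a * b ^ k * a⁻¹ = b ^ (i * k) := fun k => by rw [← conj_pow, hab, ← pow_mul]
      have e := congrArg (fun y => y * b * y⁻¹) ha3
      simp only [one_mul, inv_one, mul_one] at e
      rw [show a ^ 3 = a * a * a by rw [pow_succ, pow_two],
        show a * a * a * b * (a * a * a)⁻¹ = a * (a * (a * b * a⁻¹) * a⁻¹) * a⁻¹ by group, hab, st, st] at e
      rw [mul_assoc]; exact e
    have hm : i * i * i % 5 = 1 := by
      rw [← pow_mod_orderOf, hb] at h3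
      have hlt : i * i * i % 5 < 5 := Nat.mod_lt _ (by norm_num)
      have h1 : b ^ (i * i * i % 5) = b ^ 1 := by rw [pow_one]; exact h3
      exact pow_injOn_Iio_orderOf (by rw [hb]; exact hlt) (by rw [hb]; norm_num) h1
    have hi1 : i = 1 := by
      interval_cases i <;> simp_all
    rw [hi1, pow_one, mul_inv_eq_iff_eq_mul] at hab
    exact hab
  have hh : orderOf (a * b) = 15 := by
    rw [hcomm.orderOf_mul_eq_mul_orderOf_of_coprime (by rw [ha, hb]; norm_num), ha, hb]
  have hhH : a * b ∈ Hs := mul_mem haH hbH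
  have hgen : ∀ h', orderOf h' = 15 → h' ∈ Hs → ∀ n ∈ Hs, ∃ m < 15, n = h' ^ m := by
    intro h' ho hmem n hn
    have : Subgroup.zpowers h' = Hs := Subgroup.eq_of_le_of_card_ge (Subgroup.zpowers_le.2 hmem) (by
      rw [Nat.card_zpowers, ho, hH])
    rw [← this] at hn
    obtain ⟨m, hm, he⟩ := (mem_zpowers_iff_mem_range_orderOf.1 hn) |> Finset.mem_image.1
    exact ⟨m, by rw [← ho]; exact Finset.mem_range.1 hm, he.symm⟩
  have h15 : (a * b) ^ 15 = 1 := by rw [← hh]; exact pow_orderOf_eq_one _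
  have hfreeZ : ∀ t ∈ Z, t ≠ 1 → a * b * t ≠ t * (a * b) := by
    intro t ht ht1 hc
    have hfz := H₀.shape.normalizer_fix_Z hhH.1 ht ht1 hc z hz
    have hle : Hs ≤ K := fun n hn => by
      obtain ⟨m, -, rfl⟩ := hgen _ hh hhH n hn
      exact ⟨mem_centralizer_singleton_iff.2 ((show Commute (a * b) z from hfz).pow_left m), hn.2⟩
    have := Subgroup.card_le_of_le hle
    omega
  have hfree : ∀ m < 15, 0 < m → ∀ s ∈ (S : Subgroup G), s ∉ Z →
      s⁻¹ * ((a * b) ^ m * s * ((a * b) ^ m)⁻¹) ∉ Z := by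
    intro m hm hm0 s hs hsZ hc
    set n := (a * b) ^ m with hn
    have hnH : n ∈ Hs := pow_mem hhH m
    have hsq : n * (s * s) = s * s * n := by
      have e1 : n * s * n⁻¹ = s * (s⁻¹ * (n * s * n⁻¹)) := by group
      have e2 : n * (s * s) * n⁻¹ = s * s := by
        rw [show n * (s * s) * n⁻¹ = n * s * n⁻¹ * (n * s * n⁻¹) by group, e1,
          H₀.shape.sq_mul_Z hs hc]
      exact mul_inv_eq_iff_eq_mul.1 e2
    have hnZ := H₀.shape.normalizer_fix_Z hnH.1 (H₀.shape.sq_mem s hs)
      (fun e => hsZ ((H₀.shape.invol s hs).1 e)) hsq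
    have h1 := H₀.eq_one_of_fixes (smul_base_iff.2 hnH.1) hp hnH.2
      (H₀.shape.cent_of_fix (hnorm n hnH.1) (hoddH n hnH) hnZ hs hsZ hc)
    have := orderOf_dvd_of_pow_eq_one h1
    rw [hh] at this
    have := Nat.le_of_dvd hm0 this
    omega
  obtain ⟨x, h, hh', hg⟩ := exists_gens H₀.shape (hnorm _ hhH.1) h15 hfreeZ hfree
  have hhmem : h ∈ Hs := by rcases hh' with rfl | rfl; exacts [hhH, inv_mem hhH]
  have hho : orderOf h = 15 := by rcases hh' with rfl | rfl; exacts [hh, by rw [orderOf_inv, hh]]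
  -- the interchanging involution
  obtain ⟨g₀, hg₀⟩ := MulAction.exists_smul_eq G (base S) p
  have hne : g₀⁻¹ • base S ≠ base S := fun e => hp (by
    rw [← hg₀]
    conv_lhs => rw [← e, smul_inv_smul])
  obtain ⟨s, hs, hs'⟩ := H₀.regular hp hne
  have hgb : (g₀ * s) • base S = p := by
    rw [mul_smul, smul_base_iff.2 (Subgroup.le_normalizer hs), hg₀]
  have hgp : (g₀ * s) • p = base S := by rw [mul_smul, hs', smul_inv_smul]
  have hgg : g₀ * s * (g₀ * s) ∈ Hs :=
    ⟨smul_base_iff.1 (by rw [mul_smul, hgb, hgp]), by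
      show (g₀ * s * (g₀ * s)) • p = p
      rw [mul_smul, hgp, hgb]⟩
  have hodd : ∀ k, (g₀ * s) ^ (2 * k + 1) • base S = p ∧ (g₀ * s) ^ (2 * k + 1) • p = base S := by
    intro k
    induction k with
    | zero =>
      rw [Nat.mul_zero, Nat.zero_add, pow_one]
      exact ⟨hgb, hgp⟩
    | succ k ih =>
      have e1 : (g₀ * s * (g₀ * s)) • base S = base S := smul_base_iff.2 hgg.1
      have e2 : (g₀ * s * (g₀ * s)) • p = p := hgg.2
      rw [show 2 * (k + 1) + 1 = (2 * k + 1) + 2 by ring, pow_add, pow_two, mul_smul, e1,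
        mul_smul _ (g₀ * s * (g₀ * s)) p, e2]
      exact ⟨ih.1, ih.2⟩
  refine ⟨p, x, h, (g₀ * s) ^ 15, hp, hhmem.1, hhmem.2, hg,
    fun n hn hnp => hgen h hho hhmem n ⟨hn, hnp⟩, ?_, (hodd 7).1, (hodd 7).2⟩
  rw [← pow_two, ← pow_mul, mul_comm, pow_mul, pow_two, ← hH]
  exact congrArg Subtype.val (pow_card_eq_one' (G := Hs) (x := ⟨_, hgg⟩))

end Hyp

end CfsgLib.Invol.UThreeFour.Recog
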