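import Cfsg.Agent.Lib.Invol.UThreeFour.Recog.Coords

/-!
The coordinate map is a bijection from the model onto the Sylow 2-subgroup, respects the product,
and turns the automorphism of the model into conjugation by `h`.
-/

set_option autoImplicit false
set_option linter.unusedSectionVars false
set_option linter.style.haveILetI false

namespace CfsgLib.Invol.UThreeFour.Recog

open Subgroup

universe u

/-- Exponent of the centre picked up when the generator `i` moves to its place inside the word `a`. -/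
def acc (a i : ℕ) : ℕ :=
  (if i = 0 then
      (if a.testBit 3 then 3 else 0) ^^^ (if a.testBit 2 then 1 else 0) ^^^
      (if a.testBit 1 then 1 else 0) ^^^ (if a.testBit 0 then 1 else 0)
    else if i = 1 then
      (if a.testBit 3 then 2 else 0) ^^^ (if a.testBit 2 then 2 else 0) ^^^
      (if a.testBit 1 then 2 else 0)
    else if i = 2 then
      (if a.testBit 3 then 3 else 0) ^^^ (if a.testBit 2 then 3 else 0)
    else (if a.testBit 3 then 1 else 0))

theorem mul_gen : ∀ a < 64, ∀ i < 4,
    mul a (2 ^ i) &&& 15 = (a &&& 15) ^^^ 2 ^ i ∧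
      mul a (2 ^ i) >>> 4 = (acc (a &&& 15) i ^^^ a >>> 4) ∧ acc (a &&& 15) i < 4 := by
  decide +kernel

theorem mul_central : ∀ a < 64, ∀ k < 4,
    mul a (16 * k) &&& 15 = a &&& 15 ∧ mul a (16 * k) >>> 4 = (a >>> 4) ^^^ k := by
  decide +kernel

/-- The generators of the model. -/
def gens : List ℕ := [1, 2, 4, 8, 16, 32, 48]

theorem build : ∀ b < 64, b ≠ 0 → ∃ p < 64, p < b ∧ ∃ i < 7, mul p (gens.getD i 0) = b := by
  decide +kernel

theorem assoc_gen : ∀ i < 7, ∀ a < 64, ∀ p < 64,
    mul a (mul p (gens.getD i 0)) = mul (mul a p) (gens.getD i 0) := by decide +kernel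

theorem aut_gen : ∀ i < 7, ∀ p < 64,
    aut (mul p (gens.getD i 0)) = mul (aut p) (aut (gens.getD i 0)) := by decide +kernel

theorem split_code : ∀ b < 64, b = (b &&& 15) ||| ((b >>> 4) <<< 4) := by decide +kernel

namespace Gens

variable {G : Type u} [Group G] [Finite G] {S Z : Subgroup G} {x h : G} (g : Gens S Z x h)
include g

theorem low_mem (b : ℕ) : low h x b ∈ S := by
  have : ∀ (c : Bool) (i : ℕ), gp c (el h x i) ∈ S := fun c i => by
    cases c
    exacts [one_mem _, g.el_mem i]
  exact mul_mem (mul_mem (mul_mem (this _ 0) (this _ 1)) (this _ 2)) (this _ 3)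

theorem phi_mem (b : ℕ) : phi h x b ∈ S := mul_mem (g.low_mem _) (g.shape.le (g.zel_mem _))

theorem zel_comm (k : ℕ) {a : G} (ha : a ∈ S) : zel h x k * a = a * zel h x k :=
  g.shape.cen _ (g.zel_mem k) a ha

theorem zel_push (p q : ℕ) (hp : p < 4) (hq : q < 4) (a : G) :
    a * zel h x p * zel h x q = a * zel h x (p ^^^ q) := by
  rw [mul_assoc, g.zel_xor p hp q hq]

theorem mul_low_three (b : ℕ) : low h x b * el h x 3 = low h x (b ^^^ 2 ^ 3) * zel h x (acc b 3) := by
  obtain ⟨-, -, -, s3⟩ := g.sq_el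
  have hz : zel h x 0 = 1 := rfl
  have c3 : gp (b.testBit 3) (el h x 3) * el h x 3 =
      gp (!b.testBit 3) (el h x 3) * zel h x (if b.testBit 3 then 1 else 0) := by
    cases b.testBit 3 <;> simp [gp, hz, s3]
  have hb : ∀ i, (b ^^^ 2 ^ 3).testBit i = (b.testBit i ^^ decide (3 = i)) := fun i => by
    rw [Nat.testBit_xor, Nat.testBit_two_pow]
  simp only [low, hb]
  rw [mul_assoc, c3, ← mul_assoc]
  simp [acc]

theorem mul_low_two (b : ℕ) : low h x b * el h x 2 = low h x (b ^^^ 2 ^ 2) * zel h x (acc b 2) := by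
  obtain ⟨-, -, s2, -⟩ := g.sq_el
  obtain ⟨-, -, k23, -, -, -⟩ := g.swap_all
  have hz : zel h x 0 = 1 := rfl
  have c3 : ∀ c, gp c (el h x 3) * el h x 2 =
      el h x 2 * gp c (el h x 3) * zel h x (if c then 3 else 0) := fun c => by
    cases c
    · simp [gp, hz]
    · simp [gp, k23]
  have ms : gp (b.testBit 3) (el h x 3) ∈ S := by
    cases b.testBit 3
    exacts [one_mem _, g.el_mem 3]
  have c2 : gp (b.testBit 2) (el h x 2) * el h x 2 =
      gp (!b.testBit 2) (el h x 2) * zel h x (if b.testBit 2 then 3 else 0) := by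
    cases b.testBit 2 <;> simp [gp, hz, s2]
  have hb : ∀ i, (b ^^^ 2 ^ 2).testBit i = (b.testBit i ^^ decide (2 = i)) := fun i => by
    rw [Nat.testBit_xor, Nat.testBit_two_pow]
  simp only [low, hb]
  rw [mul_assoc, c3, ← mul_assoc, ← mul_assoc, mul_assoc (_ * gp (b.testBit 1) _), c2, ← mul_assoc,
    mul_assoc _ (zel h x (if b.testBit 2 then 3 else 0)), g.zel_comm _ ms, ← mul_assoc,
    g.zel_push _ _ (by split <;> norm_num) (by split <;> norm_num)]
  simp [acc, Nat.xor_comm]

theorem mul_low_one (b : ℕ) : low h x b * el h x 1 = low h x (b ^^^ 2 ^ 1) * zel h x (acc b 1) := by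
  obtain ⟨-, s1, -, -⟩ := g.sq_el
  obtain ⟨-, k12, -, -, k13, -⟩ := g.swap_all
  have hz : zel h x 0 = 1 := rfl
  have c3 : ∀ c, gp c (el h x 3) * el h x 1 =
      el h x 1 * gp c (el h x 3) * zel h x (if c then 2 else 0) := fun c => by
    cases c
    · simp [gp, hz]
    · simp [gp, k13]
  have c2 : ∀ c, gp c (el h x 2) * el h x 1 =
      el h x 1 * gp c (el h x 2) * zel h x (if c then 2 else 0) := fun c => by
    cases c
    · simp [gp, hz]
    · simp [gp, k12]
  have m3 : gp (b.testBit 3) (el h x 3) ∈ S := by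
    cases b.testBit 3
    exacts [one_mem _, g.el_mem 3]
  have m2 : gp (b.testBit 2) (el h x 2) ∈ S := by
    cases b.testBit 2
    exacts [one_mem _, g.el_mem 2]
  have c1 : gp (b.testBit 1) (el h x 1) * el h x 1 =
      gp (!b.testBit 1) (el h x 1) * zel h x (if b.testBit 1 then 2 else 0) := by
    cases b.testBit 1 <;> simp [gp, hz, s1]
  have hb : ∀ i, (b ^^^ 2 ^ 1).testBit i = (b.testBit i ^^ decide (1 = i)) := fun i => by
    rw [Nat.testBit_xor, Nat.testBit_two_pow]
  simp only [low, hb]
  rw [mul_assoc, c3, ← mul_assoc, ← mul_assoc, mul_assoc (_ * gp (b.testBit 1) _), c2, ← mul_assoc,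
    ← mul_assoc, mul_assoc (gp (b.testBit 0) _) (gp (b.testBit 1) _), c1, ← mul_assoc,
    mul_assoc _ (zel h x (if b.testBit 1 then 2 else 0)), g.zel_comm _ m2, ← mul_assoc,
    g.zel_push _ _ (by split <;> norm_num) (by split <;> norm_num),
    mul_assoc _ (zel h x _) (gp (b.testBit 3) _), g.zel_comm _ m3, ← mul_assoc,
    g.zel_push _ _ (Nat.xor_lt_two_pow (n := 2) (by split <;> norm_num) (by split <;> norm_num))
      (by split <;> norm_num)]
  simp [acc, Nat.xor_assoc, Nat.xor_comm, Nat.xor_left_comm]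

theorem mul_low_zero (b : ℕ) : low h x b * el h x 0 = low h x (b ^^^ 2 ^ 0) * zel h x (acc b 0) := by
  obtain ⟨s0, -, -, -⟩ := g.sq_el
  obtain ⟨k01, -, -, k02, -, k03⟩ := g.swap_all
  have hz : zel h x 0 = 1 := rfl
  have c3 : ∀ c, gp c (el h x 3) * el h x 0 =
      el h x 0 * gp c (el h x 3) * zel h x (if c then 3 else 0) := fun c => by
    cases c
    · simp [gp, hz]
    · simp [gp, k03]
  have c2 : ∀ c, gp c (el h x 2) * el h x 0 =
      el h x 0 * gp c (el h x 2) * zel h x (if c then 1 else 0) := fun c => by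
    cases c
    · simp [gp, hz]
    · simp [gp, k02]
  have c1 : ∀ c, gp c (el h x 1) * el h x 0 =
      el h x 0 * gp c (el h x 1) * zel h x (if c then 1 else 0) := fun c => by
    cases c
    · simp [gp, hz]
    · simp [gp, k01]
  have hm : ∀ c i, gp c (el h x i) ∈ S := fun c i => by
    cases c
    exacts [one_mem _, g.el_mem i]
  have c0 : gp (b.testBit 0) (el h x 0) * el h x 0 =
      gp (!b.testBit 0) (el h x 0) * zel h x (if b.testBit 0 then 1 else 0) := by
    cases b.testBit 0 <;> simp [gp, hz, s0]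
  have hb : ∀ i, (b ^^^ 2 ^ 0).testBit i = (b.testBit i ^^ decide (0 = i)) := fun i => by
    rw [Nat.testBit_xor, Nat.testBit_two_pow]
  simp only [low, hb]
  rw [mul_assoc, c3, ← mul_assoc, ← mul_assoc, mul_assoc (_ * gp (b.testBit 1) _), c2, ← mul_assoc,
    ← mul_assoc, mul_assoc (gp (b.testBit 0) _) (gp (b.testBit 1) _), c1, ← mul_assoc, ← mul_assoc, c0,
    mul_assoc _ (zel h x (if b.testBit 0 then 1 else 0)), g.zel_comm _ (hm _ 1), ← mul_assoc,
    g.zel_push _ _ (by split <;> norm_num) (by split <;> norm_num),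
    mul_assoc _ (zel h x _) (gp (b.testBit 2) _), g.zel_comm _ (hm _ 2), ← mul_assoc,
    g.zel_push _ _ (Nat.xor_lt_two_pow (n := 2) (by split <;> norm_num) (by split <;> norm_num))
      (by split <;> norm_num),
    mul_assoc _ (zel h x _) (gp (b.testBit 3) _), g.zel_comm _ (hm _ 3), ← mul_assoc,
    g.zel_push _ _ (Nat.xor_lt_two_pow (n := 2)
      (Nat.xor_lt_two_pow (n := 2) (by split <;> norm_num) (by split <;> norm_num))
      (by split <;> norm_num)) (by split <;> norm_num)]
  simp [acc, Nat.xor_assoc, Nat.xor_comm, Nat.xor_left_comm]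

theorem phi_mul_gen {a i : ℕ} (ha : a < 64) (hi : i < 4) :
    phi h x (mul a (2 ^ i)) = phi h x a * el h x i := by
  obtain ⟨h1, h2, h3⟩ := mul_gen a ha i hi
  have hl : low h x (a &&& 15) * el h x i =
      low h x ((a &&& 15) ^^^ 2 ^ i) * zel h x (acc (a &&& 15) i) := by
    interval_cases i
    exacts [g.mul_low_zero _, g.mul_low_one _, g.mul_low_two _, g.mul_low_three _]
  have hz4 : a >>> 4 < 4 := by rw [Nat.shiftRight_eq_div_pow]; omega
  rw [phi, phi, h1, h2, mul_assoc, g.zel_comm _ (g.el_mem i), ← mul_assoc, hl,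
    g.zel_push _ _ h3 hz4]

theorem phi_mul_central {a k : ℕ} (ha : a < 64) (hk : k < 4) :
    phi h x (mul a (16 * k)) = phi h x a * zel h x k := by
  obtain ⟨h1, h2⟩ := mul_central a ha k hk
  have hz4 : a >>> 4 < 4 := by rw [Nat.shiftRight_eq_div_pow]; omega
  rw [phi, phi, h1, h2, g.zel_push _ _ hz4 hk]

omit g in
theorem phi_gen_value (i : ℕ) (hi : i < 7) :
    phi h x (gens.getD i 0) = (if i < 4 then el h x i else zel h x (i - 3)) := by
  interval_cases i <;> simp [gens, phi, low, gp, Nat.testBit, zel]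

theorem phi_mul_getD {a i : ℕ} (ha : a < 64) (hi : i < 7) :
    phi h x (mul a (gens.getD i 0)) = phi h x a * phi h x (gens.getD i 0) := by
  rw [phi_gen_value i hi]
  interval_cases i
  · exact g.phi_mul_gen ha (i := 0) (by norm_num)
  · exact g.phi_mul_gen ha (i := 1) (by norm_num)
  · exact g.phi_mul_gen ha (i := 2) (by norm_num)
  · exact g.phi_mul_gen ha (i := 3) (by norm_num)
  · exact g.phi_mul_central ha (k := 1) (by norm_num)
  · exact g.phi_mul_central ha (k := 2) (by norm_num)
  · exact g.phi_mul_central ha (k := 3) (by norm_num)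

omit g in
theorem phi_zero : phi h x 0 = 1 := by simp [phi, low, gp, zel]

theorem phi_mul : ∀ b < 64, ∀ a < 64, phi h x (mul a b) = phi h x a * phi h x b := by
  intro b
  induction b using Nat.strong_induction_on with
  | _ b ih =>
    intro hb a ha
    by_cases hb0 : b = 0
    · subst hb0
      have e : mul a 0 = a := by
        revert a; decide +kernel
      rw [e, phi_zero, mul_one]
    obtain ⟨p, hp, hpb, i, hi, hpi⟩ := build b hb hb0
    subst hpi
    rw [assoc_gen i hi a ha p hp, g.phi_mul_getD (mul_lt a ha p hp) hi, g.phi_mul_getD hp hi,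
      ih p hpb hp a ha, mul_assoc]

omit g in
theorem conj_mul (a b : G) : h * (a * b) * h⁻¹ = h * a * h⁻¹ * (h * b * h⁻¹) := by group

theorem phi_aut : ∀ b < 64, phi h x (aut b) = h * phi h x b * h⁻¹ := by
  have hg : ∀ i < 7, phi h x (aut (gens.getD i 0)) = h * phi h x (gens.getD i 0) * h⁻¹ := by
    intro i hi
    obtain ⟨z1, z2, z3⟩ := g.zel_succ
    rw [phi_gen_value i hi]
    interval_cases i
    · rw [show aut (gens.getD 0 0) = gens.getD 1 0 by decide +kernel, phi_gen_value 1 (by norm_num)]
      exact (el_succ h x 0).symm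
    · rw [show aut (gens.getD 1 0) = gens.getD 2 0 by decide +kernel, phi_gen_value 2 (by norm_num)]
      exact (el_succ h x 1).symm
    · rw [show aut (gens.getD 2 0) = gens.getD 3 0 by decide +kernel, phi_gen_value 3 (by norm_num)]
      exact (el_succ h x 2).symm
    · rw [show aut (gens.getD 3 0) = mul (gens.getD 0 0) (gens.getD 1 0) by decide +kernel,
        g.phi_mul_getD (a := gens.getD 0 0) (by decide) (i := 1) (by norm_num),
        phi_gen_value 0 (by norm_num), phi_gen_value 1 (by norm_num)]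
      exact (g.el_four).symm.trans (el_succ h x 3).symm
    · rw [show aut (gens.getD 4 0) = gens.getD 5 0 by decide +kernel, phi_gen_value 5 (by norm_num)]
      exact z1.symm
    · rw [show aut (gens.getD 5 0) = gens.getD 6 0 by decide +kernel, phi_gen_value 6 (by norm_num)]
      exact z2.symm
    · rw [show aut (gens.getD 6 0) = gens.getD 4 0 by decide +kernel, phi_gen_value 4 (by norm_num)]
      exact z3.symm
  intro b
  induction b using Nat.strong_induction_on with
  | _ b ih =>
    intro hb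
    by_cases hb0 : b = 0
    · subst hb0
      rw [show aut 0 = 0 by decide +kernel, phi_zero, mul_one, mul_inv_cancel]
    obtain ⟨p, hp, hpb, i, hi, hpi⟩ := build b hb hb0
    subst hpi
    have hgl : ∀ i < 7, gens.getD i 0 < 64 := by decide
    rw [aut_gen i hi p hp, g.phi_mul _ (aut_lt _ (hgl i hi)) _ (aut_lt p hp), ih p hpb hp, hg i hi,
      g.phi_mul_getD hp hi, conj_mul]

theorem phi_injective : ∀ a < 64, ∀ b < 64, phi h x a = phi h x b → a = b := by
  suffices key : ∀ b < 64, phi h x b = 1 → b = 0 by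
    intro a ha b hb e
    have e0 := key _ (mul_lt a ha _ (inv_spec b hb).1) (by
      rw [g.phi_mul _ (inv_spec b hb).1 a ha, e, ← g.phi_mul _ (inv_spec b hb).1 b hb,
        (inv_spec b hb).2.2, phi_zero])
    have hdec : ∀ a < 64, ∀ b < 64, mul a (inv b) = 0 → a = b := by decide +kernel
    exact hdec a ha b hb e0
  intro b hb e
  by_cases hl : b &&& 15 = 0
  · have hz : zel h x (b >>> 4) = 1 := by
      rw [phi, hl] at e
      simpa [low, gp] using e
    have h1 : x * x ≠ 1 := g.sq_ne
    have h2 : h * (x * x) * h⁻¹ ≠ 1 := fun c => h1 (conj_eq_one_iff.1 c)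
    have h3 : x * x * (h * (x * x) * h⁻¹) ≠ 1 := fun c => g.freeZ _ (g.shape.sq_mem x g.xS) h1 (by
      refine mul_inv_eq_iff_eq_mul.1 ?_
      rw [← inv_eq_of_mul_eq_one_right c, g.shape.inv_Z (g.shape.sq_mem x g.xS)])
    have hz4 : b >>> 4 < 4 := by rw [Nat.shiftRight_eq_div_pow]; omega
    have hd : b >>> 4 = 0 := by
      generalize b >>> 4 = q at hz hz4
      interval_cases q
      exacts [rfl, absurd hz h1, absurd hz h2, absurd hz h3]
    rw [split_code b hb, hl, hd]; rfl
  · exfalso
    have hlo : low h x (b &&& 15) ∈ Z := by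
      rw [phi, mul_eq_one_iff_eq_inv] at e
      rw [e]; exact inv_mem (g.zel_mem _)
    -- the classes of the orbit are independent modulo the centre
    set N : Subgroup S := Z.subgroupOf S with hN
    haveI : N.Normal := ⟨fun n hmem k => by
      rw [hN, mem_subgroupOf] at hmem ⊢
      simpa [g.shape.conj_Z k.2 hmem] using hmem⟩
    have hsq : ∀ q : S ⧸ N, q * q = 1 := by
      intro q
      obtain ⟨s, rfl⟩ := QuotientGroup.mk_surjective q
      rw [← QuotientGroup.mk_mul, QuotientGroup.eq_one_iff]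
      exact g.shape.sq_mem s s.2
    letI : CommGroup (S ⧸ N) :=
      { (inferInstance : Group (S ⧸ N)) with
        mul_comm := fun a b => by
          have hi : ∀ q : S ⧸ N, q⁻¹ = q := fun q => inv_eq_of_mul_eq_one_left (hsq q)
          calc a * b = (a * b)⁻¹ := (hi _).symm
            _ = b⁻¹ * a⁻¹ := mul_inv_rev a b
            _ = b * a := by rw [hi, hi] }
    let c : S →* S :=
      { toFun := fun s => ⟨h * s * h⁻¹, g.norm s s.2⟩
        map_one' := Subtype.ext (by simp)
        map_mul' := fun a b => Subtype.ext (by simp [mul_assoc]) }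
    let T : S ⧸ N →* S ⧸ N := QuotientGroup.map N N c (fun s hs => by
      rw [hN, mem_comap, mem_subgroupOf]
      exact conj_mem_Z g.shape g.norm hs)
    set e' : S ⧸ N := ((⟨el h x 0, g.el_mem 0⟩ : S) : S ⧸ N) with he
    have hit : ∀ m, T^[m] e' = ((⟨el h x m, g.el_mem m⟩ : S) : S ⧸ N) := by
      intro m
      induction m with
      | zero => rfl
      | succ m ih =>
        rw [Function.iterate_succ_apply', ih]
        show QuotientGroup.map N N c _ _ = _
        rw [QuotientGroup.map_mk]
        congr 1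
        exact Subtype.ext (el_succ h x m)
    have hne : ∀ m < 15, T^[m] e' ≠ 1 := by
      intro m _ hc
      rw [hit, QuotientGroup.eq_one_iff, hN, mem_subgroupOf] at hc
      refine g.xZ ?_
      have := pow_conj_mem_Z g.shape g.norm (m * 14) hc
      change h ^ (m * 14) * (h ^ m * x * (h ^ m)⁻¹) * (h ^ (m * 14))⁻¹ ∈ Z at this
      rw [show h ^ (m * 14) * (h ^ m * x * (h ^ m)⁻¹) * (h ^ (m * 14))⁻¹ =
          h ^ (m * 14 + m) * x * (h ^ (m * 14 + m))⁻¹ by rw [pow_add]; group,
        show m * 14 + m = 15 * m by ring, pow_mul, g.h15] at this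
      simpa using this
    have hinj : ∀ m < 15, ∀ n < 15, T^[m] e' = T^[n] e' → m = n := by
      have key : ∀ m < 15, ∀ n < 15, m < n → T^[m] e' ≠ T^[n] e' := by
        intro m hm n hn' hmn hc
        rw [hit, hit, QuotientGroup.eq, hN, mem_subgroupOf] at hc
        refine g.free (n - m) (by omega) (by omega) ?_
        have := pow_conj_mem_Z g.shape g.norm (15 - m) hc
        change h ^ (15 - m) * ((h ^ m * x * (h ^ m)⁻¹)⁻¹ * (h ^ n * x * (h ^ n)⁻¹)) *
          (h ^ (15 - m))⁻¹ ∈ Z at this
        rw [show h ^ (15 - m) * ((h ^ m * x * (h ^ m)⁻¹)⁻¹ * (h ^ n * x * (h ^ n)⁻¹)) *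
            (h ^ (15 - m))⁻¹ = (h ^ (15 - m + m) * x * (h ^ (15 - m + m))⁻¹)⁻¹ *
              (h ^ (15 - m + n) * x * (h ^ (15 - m + n))⁻¹) by rw [pow_add, pow_add]; group,
          Nat.sub_add_cancel (by omega : m ≤ 15), show 15 - m + n = 15 + (n - m) by omega, pow_add,
          g.h15, one_mul] at this
        simpa using this
      intro m hm n hn' hc
      rcases lt_trichotomy m n with hlt | heq | hgt
      · exact absurd hc (key m hm n hn' hlt)
      · exact heq
      · exact absurd hc.symm (key n hn' m hm hgt)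
    refine comb_ne_one hsq T e' hinj hne (b := b &&& 15) (Nat.lt_succ_of_le Nat.and_le_right) hl ?_
    have hcomb : comb (fun j => T^[j] e') (b &&& 15) =
        ((⟨low h x (b &&& 15), g.low_mem _⟩ : S) : S ⧸ N) := by
      have hp : ∀ (c : Bool) (i : ℕ) (hm : gp c (el h x i) ∈ S),
          pick c (T^[i] e') = ((⟨gp c (el h x i), hm⟩ : S) : S ⧸ N) := by
        intro c i hm
        cases c
        · rfl
        · exact hit i
      have hm : ∀ c i, gp c (el h x i) ∈ S := fun c i => by
        cases c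
        exacts [one_mem _, g.el_mem i]
      simp only [comb]
      rw [hp _ 0 (hm _ _), hp _ 1 (hm _ _), hp _ 2 (hm _ _), hp _ 3 (hm _ _), ← QuotientGroup.mk_mul,
        ← QuotientGroup.mk_mul, ← QuotientGroup.mk_mul]
      rfl
    rw [hcomb, QuotientGroup.eq_one_iff, hN, mem_subgroupOf]
    exact hlo

theorem phi_surjective {s : G} (hs : s ∈ S) : ∃ b < 64, phi h x b = s := by
  let f : Fin 64 → S := fun b => ⟨phi h x b, g.phi_mem b⟩
  have hf : Function.Injective f := fun a b e =>
    Fin.ext (g.phi_injective a a.2 b b.2 (congrArg Subtype.val e))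
  have hb := (Nat.bijective_iff_injective_and_card f).2 ⟨hf, by rw [Nat.card_fin, g.shape.cardS]⟩
  obtain ⟨b, hb'⟩ := hb.2 ⟨s, hs⟩
  exact ⟨b, b.2, congrArg Subtype.val hb'⟩

end Gens

end CfsgLib.Invol.UThreeFour.Recog
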